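import Groth.Agent.H27.TrRes.Abs2

/-!
# Tate's abstract residue: the vanishing (R2) and additivity for `A ⊔ B = ⊤`
-/

set_option autoImplicit false

namespace Groth.Agent.H27.Tate

open LinearMap

variable {k : Type*} [Field k] {V : Type*} [AddCommGroup V] [Module k V]

/-- **(R2)** -/
theorem ftr_comm_eq_zero_of_stable {A : Submodule k V} {π f g : Module.End k V}
    (hπ : IsProjOnto A π) (hc : Commute f g) (h1 : ∀ a ∈ A, f a ∈ A)
    (h2 : ∀ a ∈ A, f (g a) ∈ A) (h3 : ∀ a ∈ A, f (g (g a)) ∈ A) : ftr (comm π f g) = 0 := by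
  have hcv : ∀ v, f (g v) = g (f v) := fun v => by
    rw [← Module.End.mul_apply, ← Module.End.mul_apply, hc.eq]
  have hA : ∀ a ∈ A, comm π f g a = 0 := fun a ha => by
    rw [comm_apply, hπ.id _ (h2 a ha), hπ.id _ (h1 a ha), hcv, sub_self]
  have hgA : ∀ a ∈ A, comm π f g (g a) = 0 := fun a ha => by
    rw [comm_apply, hπ.id _ (h3 a ha), hπ.id _ (h2 a ha), hcv (g a), sub_self]
  refine ftr_eq_zero_of_mul_self _ (LinearMap.ext fun v => ?_)
  rw [Module.End.mul_apply, LinearMap.zero_apply, comm_apply π f g v, map_sub,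
    hA _ (hπ.mem _), hgA _ (hπ.mem _), sub_zero]

theorem exists_fd_sup' {V' Q : Type*} [AddCommGroup V'] [Module k V'] [AddCommGroup Q]
    [Module k Q] (q : V' →ₗ[k] Q) (W : Submodule k V') (h : FiniteDimensional k (W.map q)) :
    ∃ U' : Submodule k V', FiniteDimensional k U' ∧ U' ≤ W ∧ W ≤ (LinearMap.ker q ⊓ W) ⊔ U' := by
  let qW : W →ₗ[k] W.map q := (q.domRestrict W).codRestrict (W.map q) (fun x => ⟨x, x.2, rfl⟩)
  have hsurj : range qW = ⊤ := by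
    rw [range_eq_top]
    rintro ⟨_, x, hx, rfl⟩
    exact ⟨⟨x, hx⟩, rfl⟩
  obtain ⟨s, hs⟩ := qW.exists_rightInverse_of_surjective hsurj
  refine ⟨range (W.subtype ∘ₗ s), inferInstance, ?_, fun x hx => ?_⟩
  · rintro _ ⟨y, rfl⟩
    exact (s y).2
  have h1 : q ((s (qW ⟨x, hx⟩) : W) : V') = q x := by
    have := congrArg Subtype.val (LinearMap.congr_fun hs (qW ⟨x, hx⟩))
    exact this
  have h2 : x - ((s (qW ⟨x, hx⟩) : W) : V') ∈ LinearMap.ker q ⊓ W := by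
    refine ⟨?_, sub_mem hx (s (qW ⟨x, hx⟩)).2⟩
    rw [SetLike.mem_coe, LinearMap.mem_ker, map_sub, h1, sub_self]
  have h3 : ((s (qW ⟨x, hx⟩) : W) : V') ∈ range (W.subtype ∘ₗ s) := ⟨qW ⟨x, hx⟩, rfl⟩
  have := Submodule.add_mem_sup h2 h3
  rwa [sub_add_cancel] at this

/-- `(A + U) ∩ (B + U')` is commensurable with `A ∩ B`. -/
theorem inf_sup_le (A B U U' : Submodule k V) [FiniteDimensional k U] [FiniteDimensional k U'] :
    ∃ U'' : Submodule k V, FiniteDimensional k U'' ∧ (A ⊔ U) ⊓ (B ⊔ U') ≤ (A ⊓ B) ⊔ U'' := by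
  -- first step: `A ⊓ (B ⊔ U₂) ≤ (A ⊓ B) ⊔ U₃`
  have step : ∀ U₂ : Submodule k V, FiniteDimensional k U₂ →
      ∃ U₃ : Submodule k V, FiniteDimensional k U₃ ∧ A ⊓ (B ⊔ U₂) ≤ (A ⊓ B) ⊔ U₃ := by
    intro U₂ hU₂
    have hfd : FiniteDimensional k ((A ⊓ (B ⊔ U₂)).map B.mkQ) := by
      have hle : (A ⊓ (B ⊔ U₂)).map B.mkQ ≤ U₂.map B.mkQ := by
        rintro _ ⟨x, hx, rfl⟩
        obtain ⟨b, hb, u, hu, h⟩ := Submodule.mem_sup.1 hx.2
        refine ⟨u, hu, ?_⟩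
        have hb0 : B.mkQ b = 0 := (Submodule.Quotient.mk_eq_zero B).2 hb
        rw [← h, map_add, hb0, zero_add]
      exact Submodule.finiteDimensional_of_le hle
    obtain ⟨U₃, hU₃, hU₃W, hW⟩ := exists_fd_sup' B.mkQ (A ⊓ (B ⊔ U₂)) hfd
    refine ⟨U₃, hU₃, hW.trans (sup_le_sup_right ?_ _)⟩
    rw [Submodule.ker_mkQ]
    rintro x ⟨hxB, hxA, -⟩
    exact ⟨hxA, hxB⟩
  obtain ⟨U₃, hU₃, h3⟩ := step (U' ⊔ U) inferInstance
  refine ⟨U₃ ⊔ U, inferInstance, ?_⟩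
  rintro x ⟨hxA, hxB⟩
  obtain ⟨a, ha, u, hu, rfl⟩ := Submodule.mem_sup.1 hxA
  obtain ⟨b, hb, u', hu', h⟩ := Submodule.mem_sup.1 hxB
  have ha' : a ∈ A ⊓ (B ⊔ (U' ⊔ U)) := by
    refine ⟨ha, ?_⟩
    have : a = b + (u' - u) := by
      calc a = (a + u) - u := by abel
        _ = (b + u') - u := by rw [h]
        _ = b + (u' - u) := by abel
    rw [this]
    exact Submodule.add_mem_sup hb (Submodule.sub_mem_sup hu' hu)
  obtain ⟨d, hd, u₃, hu₃, rfl⟩ := Submodule.mem_sup.1 (h3 ha')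
  rw [add_assoc]
  exact Submodule.add_mem_sup hd (Submodule.add_mem_sup hu₃ hu)

theorem NearStable.inf {A B : Submodule k V} {f : Module.End k V} (hA : NearStable A f)
    (hB : NearStable B f) : NearStable (A ⊓ B) f := by
  obtain ⟨UA, hUA, hfA⟩ := hA
  obtain ⟨UB, hUB, hfB⟩ := hB
  obtain ⟨U'', hU'', hle⟩ := inf_sup_le A B UA UB
  exact ⟨U'', hU'', fun a ha => hle ⟨hfA a ha.1, hfB a ha.2⟩⟩

/-- **Additivity** of the abstract residue when `A + B = V`. -/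
theorem ftr_comm_inf {A B : Submodule k V} (hAB : A ⊔ B = ⊤) {f g : Module.End k V}
    (hfA : NearStable A f) (hgA : NearStable A g) (hfB : NearStable B f) (hgB : NearStable B g)
    (hc : Commute f g) {πA πB π : Module.End k V} (hπA : IsProjOnto A πA)
    (hπB : IsProjOnto B πB) (hπ : IsProjOnto (A ⊓ B) π) :
    ftr (comm π f g) = ftr (comm πA f g) + ftr (comm πB f g) := by
  obtain ⟨Q, hQ⟩ := Submodule.exists_isCompl (A ⊓ B)
  -- every vector decomposes as `d + a₁ + b₁`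
  have hdec : ∀ v : V, ∃ d ∈ A ⊓ B, ∃ a₁ ∈ Q ⊓ A, ∃ b₁ ∈ Q ⊓ B, v = d + a₁ + b₁ := by
    intro v
    have hv : v ∈ A ⊔ B := by rw [hAB]; trivial
    obtain ⟨a, ha, b, hb, rfl⟩ := Submodule.mem_sup.1 hv
    have h1 : a ∈ (A ⊓ B) ⊔ Q := by rw [hQ.sup_eq_top]; trivial
    have h2 : b ∈ (A ⊓ B) ⊔ Q := by rw [hQ.sup_eq_top]; trivial
    obtain ⟨d₁, hd₁, q₁, hq₁, rfl⟩ := Submodule.mem_sup.1 h1
    obtain ⟨d₂, hd₂, q₂, hq₂, rfl⟩ := Submodule.mem_sup.1 h2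
    refine ⟨d₁ + d₂, add_mem hd₁ hd₂, q₁, ⟨hq₁, ?_⟩, q₂, ⟨hq₂, ?_⟩, by abel⟩
    · have := sub_mem ha hd₁.1
      rwa [add_sub_cancel_left] at this
    · have := sub_mem hb hd₂.2
      rwa [add_sub_cancel_left] at this
  have hAB₁ : IsCompl A (Q ⊓ B) := by
    refine IsCompl.of_eq ?_ ?_
    · rw [eq_bot_iff]
      rintro x ⟨hxA, hxQ, hxB⟩
      have : x ∈ (A ⊓ B) ⊓ Q := ⟨⟨hxA, hxB⟩, hxQ⟩
      rwa [hQ.inf_eq_bot] at this
    · rw [eq_top_iff]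
      intro v _
      obtain ⟨d, hd, a₁, ha₁, b₁, hb₁, rfl⟩ := hdec v
      exact Submodule.add_mem_sup (add_mem hd.1 ha₁.2) hb₁
  have hBA₁ : IsCompl B (Q ⊓ A) := by
    refine IsCompl.of_eq ?_ ?_
    · rw [eq_bot_iff]
      rintro x ⟨hxB, hxQ, hxA⟩
      have : x ∈ (A ⊓ B) ⊓ Q := ⟨⟨hxA, hxB⟩, hxQ⟩
      rwa [hQ.inf_eq_bot] at this
    · rw [eq_top_iff]
      intro v _
      obtain ⟨d, hd, a₁, ha₁, b₁, hb₁, rfl⟩ := hdec v
      have e : d + a₁ + b₁ = (d + b₁) + a₁ := by abel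
      rw [e]
      exact Submodule.add_mem_sup (add_mem hd.2 hb₁.2) ha₁
  set pA : Module.End k V := A.projection (Q ⊓ B) hAB₁ with hpA
  set pB : Module.End k V := B.projection (Q ⊓ A) hBA₁ with hpB
  have hpA' : IsProjOnto A pA :=
    ⟨fun v => Submodule.projection_apply_mem hAB₁ v,
      fun a ha => Submodule.projection_apply_of_mem_left hAB₁ ha⟩
  have hpB' : IsProjOnto B pB :=
    ⟨fun v => Submodule.projection_apply_mem hBA₁ v,
      fun a ha => Submodule.projection_apply_of_mem_left hBA₁ ha⟩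
  have hpA0 : ∀ x ∈ Q ⊓ B, pA x = 0 :=
    fun x hx => Submodule.projection_apply_of_mem_right hAB₁ hx
  have hpB0 : ∀ x ∈ Q ⊓ A, pB x = 0 :=
    fun x hx => Submodule.projection_apply_of_mem_right hBA₁ hx
  have hpAv : ∀ d ∈ A ⊓ B, ∀ a₁ ∈ Q ⊓ A, ∀ b₁ ∈ Q ⊓ B, pA (d + a₁ + b₁) = d + a₁ := by
    intro d hd a₁ ha₁ b₁ hb₁
    rw [map_add, hpA'.id _ (add_mem hd.1 ha₁.2), hpA0 _ hb₁, add_zero]
  have hpBv : ∀ d ∈ A ⊓ B, ∀ a₁ ∈ Q ⊓ A, ∀ b₁ ∈ Q ⊓ B, pB (d + a₁ + b₁) = d + b₁ := by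
    intro d hd a₁ ha₁ b₁ hb₁
    have e : d + a₁ + b₁ = (d + b₁) + a₁ := by abel
    rw [e, map_add, hpB'.id _ (add_mem hd.2 hb₁.2), hpB0 _ ha₁, add_zero]
  set p : Module.End k V := pA + pB - 1 with hp
  have hp' : IsProjOnto (A ⊓ B) p := by
    refine ⟨fun v => ?_, fun d hd => ?_⟩
    · obtain ⟨d, hd, a₁, ha₁, b₁, hb₁, rfl⟩ := hdec v
      have : p (d + a₁ + b₁) = d := by
        rw [hp, LinearMap.sub_apply, LinearMap.add_apply, hpAv d hd a₁ ha₁ b₁ hb₁,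
          hpBv d hd a₁ ha₁ b₁ hb₁, Module.End.one_apply]
        abel
      rw [this]; exact hd
    · rw [hp, LinearMap.sub_apply, LinearMap.add_apply, hpA'.id d hd.1, hpB'.id d hd.2,
        Module.End.one_apply]
      abel
  have hfg : f * g = g * f := hc.eq
  have hcomm1 : comm p f g = comm pA f g + comm pB f g := by
    unfold comm
    rw [hp]
    simp only [sub_mul, add_mul, mul_sub, mul_add, one_mul, mul_one, mul_assoc]
    rw [hfg]
    abel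
  -- ranges
  have hinA : InE A (comm pA f g) := inE_comm hpA' hfA hgA hc
  have hinB : InE B (comm pB f g) := inE_comm hpB' hfB hgB hc
  obtain ⟨UgA, hUgA, hgA'⟩ := hgA
  obtain ⟨UgB, hUgB, hgB'⟩ := hgB
  -- `comm pB f g v ∈ A ⊔ UgA`, since `1 - pB` has range in `A`
  have hrB : ∀ v, (v - pB v) ∈ A := by
    intro v
    obtain ⟨d, hd, a₁, ha₁, b₁, hb₁, rfl⟩ := hdec v
    rw [hpBv d hd a₁ ha₁ b₁ hb₁]
    have : d + a₁ + b₁ - (d + b₁) = a₁ := by abel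
    rw [this]; exact ha₁.2
  have hrA : ∀ v, (v - pA v) ∈ B := by
    intro v
    obtain ⟨d, hd, a₁, ha₁, b₁, hb₁, rfl⟩ := hdec v
    rw [hpAv d hd a₁ ha₁ b₁ hb₁]
    have : d + a₁ + b₁ - (d + a₁) = b₁ := by abel
    rw [this]; exact hb₁.2
  have hcv : ∀ v, f (g v) = g (f v) := fun v => by
    rw [← Module.End.mul_apply, ← Module.End.mul_apply, hc.eq]
  have hBinA : ∀ v, comm pB f g v ∈ A ⊔ UgA := by
    intro v
    have e : comm pB f g v = g (f v - pB (f v)) - (f (g v) - pB (f (g v))) := by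
      rw [comm_apply, map_sub, hcv]; abel
    rw [e]
    exact sub_mem (hgA' _ (hrB _)) (Submodule.mem_sup_left (hrB _))
  have hAinB : ∀ v, comm pA f g v ∈ B ⊔ UgB := by
    intro v
    have e : comm pA f g v = g (f v - pA (f v)) - (f (g v) - pA (f (g v))) := by
      rw [comm_apply, map_sub, hcv]; abel
    rw [e]
    exact sub_mem (hgB' _ (hrA _)) (Submodule.mem_sup_left (hrA _))
  obtain ⟨⟨UA, hUA, hVA⟩, ⟨WA, hWA, hAA⟩⟩ := hinA
  obtain ⟨⟨UB, hUB, hVB⟩, ⟨WB, hWB, hBB⟩⟩ := hinB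
  have hAB' : FiniteDimensional k (range (comm pA f g * comm pB f g)) := by
    obtain ⟨U'', hU'', hle⟩ := inf_sup_le A B UgA UB
    have hle' : range (comm pA f g * comm pB f g) ≤ WA ⊔ U''.map (comm pA f g) := by
      rintro _ ⟨v, rfl⟩
      have h1 : comm pB f g v ∈ (A ⊓ B) ⊔ U'' := hle ⟨hBinA v, hVB v⟩
      obtain ⟨d, hd, u, hu, h⟩ := Submodule.mem_sup.1 h1
      rw [Module.End.mul_apply, ← h, map_add]
      exact Submodule.add_mem_sup (hAA d hd.1) (Submodule.mem_map_of_mem hu)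
    exact Submodule.finiteDimensional_of_le hle'
  have hBA' : FiniteDimensional k (range (comm pB f g * comm pA f g)) := by
    obtain ⟨U'', hU'', hle⟩ := inf_sup_le A B UA UgB
    have hle' : range (comm pB f g * comm pA f g) ≤ WB ⊔ U''.map (comm pB f g) := by
      rintro _ ⟨v, rfl⟩
      have h1 : comm pA f g v ∈ (A ⊓ B) ⊔ U'' := hle ⟨hVA v, hAinB v⟩
      obtain ⟨d, hd, u, hu, h⟩ := Submodule.mem_sup.1 h1
      rw [Module.End.mul_apply, ← h, map_add]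
      exact Submodule.add_mem_sup (hBB d hd.2) (Submodule.mem_map_of_mem hu)
    exact Submodule.finiteDimensional_of_le hle'
  have hinA2 : InE A (comm pA f g) := ⟨⟨UA, hUA, hVA⟩, ⟨WA, hWA, hAA⟩⟩
  have hinB2 : InE B (comm pB f g) := ⟨⟨UB, hUB, hVB⟩, ⟨WB, hWB, hBB⟩⟩
  have hgA2 : NearStable A g := ⟨UgA, hUgA, hgA'⟩
  have hgB2 : NearStable B g := ⟨UgB, hUgB, hgB'⟩
  rw [ftr_comm_indep hπ hp' (hfA.inf hfB) (hgA2.inf hgB2) hc, hcomm1,
    ftr_add _ _ (hinA2.range_mul hinA2) hAB' hBA' (hinB2.range_mul hinB2),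
    ftr_comm_indep hπA hpA' hfA hgA2 hc, ftr_comm_indep hπB hpB' hfB hgB2 hc]

end Groth.Agent.H27.Tate
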