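import Groth.Agent.H27.Tate.PiTrace

/-!
# More on Tate's abstract residue: commensurable subspaces, subspaces `V' ⊆ V` with `V = V' + A`,
block operators.
-/

set_option autoImplicit false

namespace Groth.Agent.H27.Tate

open LinearMap

variable {k : Type*} [Field k] {V : Type*} [AddCommGroup V] [Module k V]

theorem NearStable.of_le {A A' : Submodule k V} {f : Module.End k V} (hf : NearStable A f)
    (hle : A ≤ A') (U : Submodule k V) [FiniteDimensional k U] (hU : A' ≤ A ⊔ U) :
    NearStable A' f := by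
  obtain ⟨Uf, hUf, hf⟩ := hf
  refine ⟨Uf ⊔ U.map f, inferInstance, fun a ha => ?_⟩
  obtain ⟨a₁, ha₁, u, hu, rfl⟩ := Submodule.mem_sup.1 (hU ha)
  rw [map_add]
  obtain ⟨a₂, ha₂, u₂, hu₂, h2⟩ := Submodule.mem_sup.1 (hf a₁ ha₁)
  rw [← h2, add_assoc]
  exact Submodule.add_mem_sup (hle ha₂) (Submodule.add_mem_sup hu₂ (Submodule.mem_map_of_mem hu))

theorem NearStable.of_ge {A A' : Submodule k V} {f : Module.End k V} (hf : NearStable A' f)
    (hle : A ≤ A') (U : Submodule k V) [FiniteDimensional k U] (hU : A' ≤ A ⊔ U) :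
    NearStable A f := by
  obtain ⟨Uf, hUf, hf⟩ := hf
  refine ⟨U ⊔ Uf, inferInstance, fun a ha => ?_⟩
  obtain ⟨a₁, ha₁, u, hu, h1⟩ := Submodule.mem_sup.1 (hf a (hle ha))
  obtain ⟨a₂, ha₂, u₂, hu₂, h2⟩ := Submodule.mem_sup.1 (hU ha₁)
  rw [← h1, ← h2, add_assoc]
  exact Submodule.add_mem_sup ha₂ (Submodule.add_mem_sup hu₂ hu)

/-- The trace of `[π f, g]` only depends on the commensurability class of `A`. -/
theorem ftr_comm_of_le {A A' : Submodule k V} {π π' f g : Module.End k V} (hπ : IsProjOnto A π)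
    (hπ' : IsProjOnto A' π') (hle : A ≤ A') (U : Submodule k V) [FiniteDimensional k U]
    (hU : A' ≤ A ⊔ U) (hf : NearStable A f) (hg : NearStable A g) (hc : Commute f g) :
    ftr (comm π f g) = ftr (comm π' f g) := by
  have hπ2 : IsProjOnto A (π * π') := ⟨fun v => hπ.mem _, fun a ha => by
    rw [Module.End.mul_apply, hπ'.id a (hle ha), hπ.id a ha]⟩
  rw [ftr_comm_indep hπ hπ2 hf hg hc]
  have hρ : FiniteDimensional k (range (π' - π * π')) := by
    have hle' : range (π' - π * π') ≤ U.map (1 - π) := by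
      rintro _ ⟨v, rfl⟩
      have := one_sub_proj_mem hπ U (hU (hπ'.mem v))
      rwa [LinearMap.sub_apply, Module.End.mul_apply]
    exact Submodule.finiteDimensional_of_le hle'
  have hη : FiniteDimensional k (range ((π' - π * π') * f)) :=
    finiteDimensional_range_mul_left _ f
  have h1 : InE A ((π' - π * π') * f * g) :=
    inE_of_finiteRank A _ (finiteDimensional_range_mul_left _ g)
  have h2 : InE A (g * ((π' - π * π') * f)) :=
    inE_of_finiteRank A _ (finiteDimensional_range_mul_right g _)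
  have e : comm π' f g = comm (π * π') f g +
      ((π' - π * π') * f * g - g * ((π' - π * π') * f)) := by
    unfold comm
    simp only [sub_mul, mul_sub, mul_assoc]
    abel
  have e2 : ftr ((π' - π * π') * f * g) = ftr (g * ((π' - π * π') * f)) :=
    ftr_comm ((π' - π * π') * f) g h1.isFP
  rw [e, ftr_add_of_inE (inE_comm hπ2 hf hg hc) (h1.sub h2), ftr_sub_of_inE h1 h2, e2, sub_self,
    add_zero]

theorem exists_fd_sup {V' Q : Type*} [AddCommGroup V'] [Module k V'] [AddCommGroup Q] [Module k Q]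
    (q : V' →ₗ[k] Q) (W : Submodule k V') (h : FiniteDimensional k (W.map q)) :
    ∃ U' : Submodule k V', FiniteDimensional k U' ∧ W ≤ LinearMap.ker q ⊔ U' := by
  let qW : W →ₗ[k] W.map q := (q.domRestrict W).codRestrict (W.map q) (fun x => ⟨x, x.2, rfl⟩)
  have hsurj : range qW = ⊤ := by
    rw [range_eq_top]
    rintro ⟨_, x, hx, rfl⟩
    exact ⟨⟨x, hx⟩, rfl⟩
  obtain ⟨s, hs⟩ := qW.exists_rightInverse_of_surjective hsurj
  refine ⟨range (W.subtype ∘ₗ s), inferInstance, fun x hx => ?_⟩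
  have h1 : q ((s (qW ⟨x, hx⟩) : W) : V') = q x := by
    have := congrArg Subtype.val (LinearMap.congr_fun hs (qW ⟨x, hx⟩))
    exact this
  have h2 : x - ((s (qW ⟨x, hx⟩) : W) : V') ∈ LinearMap.ker q := by
    rw [LinearMap.mem_ker, map_sub, h1, sub_self]
  have h3 : ((s (qW ⟨x, hx⟩) : W) : V') ∈ range (W.subtype ∘ₗ s) := ⟨qW ⟨x, hx⟩, rfl⟩
  have := Submodule.add_mem_sup h2 h3
  rwa [sub_add_cancel] at this

theorem NearStable.comap {V' : Type*} [AddCommGroup V'] [Module k V'] (ι : V' →ₗ[k] V)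
    {A : Submodule k V} {f : Module.End k V} {f' : Module.End k V'} (hf : NearStable A f)
    (hff : ∀ x, ι (f' x) = f (ι x)) : NearStable (A.comap ι) f' := by
  obtain ⟨U, hU, hfU⟩ := hf
  have hfd : FiniteDimensional k (((A ⊔ U).comap ι).map (A.mkQ ∘ₗ ι)) := by
    have hle : ((A ⊔ U).comap ι).map (A.mkQ ∘ₗ ι) ≤ U.map A.mkQ := by
      rintro _ ⟨x, hx, rfl⟩
      obtain ⟨a, ha, u, hu, h⟩ := Submodule.mem_sup.1 (Submodule.mem_comap.1 hx)
      refine ⟨u, hu, ?_⟩
      have ha0 : A.mkQ a = 0 := (Submodule.Quotient.mk_eq_zero A).2 ha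
      rw [LinearMap.comp_apply, ← h, map_add, ha0, zero_add]
    exact Submodule.finiteDimensional_of_le hle
  obtain ⟨U', hU', hW⟩ := exists_fd_sup (A.mkQ ∘ₗ ι) ((A ⊔ U).comap ι) hfd
  have hker : LinearMap.ker (A.mkQ ∘ₗ ι) = A.comap ι := by
    rw [LinearMap.ker_comp, Submodule.ker_mkQ]
  rw [hker] at hW
  refine ⟨U', hU', fun a ha => hW ?_⟩
  rw [Submodule.mem_comap, hff]
  exact hfU _ ha

/-- **(R1)** If `V = ι V' + A`, the trace of `[π f, g]` can be computed on `V'` with `A' = ι⁻¹ A`. -/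
theorem ftr_comm_of_injective {V' : Type*} [AddCommGroup V'] [Module k V'] (ι : V' →ₗ[k] V)
    (hι : Function.Injective ι) {A : Submodule k V} (hV : ∀ v, ∃ v', v - ι v' ∈ A)
    {π f g : Module.End k V} {π' f' g' : Module.End k V'}
    (hπ : IsProjOnto A π) (hπ' : IsProjOnto (A.comap ι) π')
    (hf : NearStable A f) (hg : NearStable A g) (hc : Commute f g)
    (hff : ∀ x, ι (f' x) = f (ι x)) (hgg : ∀ x, ι (g' x) = g (ι x)) :
    ftr (comm π f g) = ftr (comm π' f' g') := by
  have hπ'2 : ∀ x, π' (x - π' x) = 0 := fun x => by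
    rw [map_sub, hπ'.id _ (hπ'.mem x), sub_self]
  set N : Submodule k V := (LinearMap.ker π').map ι with hN
  have hcompl : IsCompl A N := by
    refine IsCompl.of_eq ?_ ?_
    · rw [eq_bot_iff]
      rintro x ⟨hxA, c, hc', rfl⟩
      have h1 : π' c = c := hπ'.id c hxA
      have h2 : π' c = 0 := hc'
      rw [Submodule.mem_bot, ← h1, h2, map_zero]
    · rw [eq_top_iff]
      intro v _
      obtain ⟨v', hv'⟩ := hV v
      have e : v = (v - ι v' + ι (π' v')) + ι (v' - π' v') := by
        rw [map_sub]; abel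
      rw [e]
      exact Submodule.add_mem_sup (add_mem hv' (hπ'.mem v'))
        (Submodule.mem_map_of_mem (hπ'2 v'))
  set π₁ : Module.End k V := A.projection N hcompl with hπ₁d
  have hπ₁ : IsProjOnto A π₁ :=
    ⟨fun v => Submodule.projection_apply_mem hcompl v,
      fun a ha => Submodule.projection_apply_of_mem_left hcompl ha⟩
  have hπ₁N : ∀ x ∈ N, π₁ x = 0 :=
    fun x hx => Submodule.projection_apply_of_mem_right hcompl hx
  have hπ₁ι : ∀ x, π₁ (ι x) = ι (π' x) := by
    intro x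
    have e : ι x = ι (π' x) + ι (x - π' x) := by rw [map_sub]; abel
    rw [e, map_add, hπ₁.id _ (hπ'.mem x), hπ₁N _ (Submodule.mem_map_of_mem (hπ'2 x)), add_zero]
  have hρ : ∀ v, ∃ c, v - π₁ v = ι c := by
    intro v
    have : v ∈ A ⊔ N := by rw [hcompl.sup_eq_top]; trivial
    obtain ⟨a, ha, n, hn, rfl⟩ := Submodule.mem_sup.1 this
    obtain ⟨c, hc', rfl⟩ := hn
    refine ⟨c, ?_⟩
    rw [map_add, hπ₁.id a ha, hπ₁N _ (Submodule.mem_map_of_mem hc'), add_zero]
    abel
  have hθ : ∀ v, comm π₁ f g v ∈ range ι := by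
    intro v
    obtain ⟨c₁, hc₁⟩ := hρ (f (g v))
    obtain ⟨c₂, hc₂⟩ := hρ (f v)
    have hcv : f (g v) = g (f v) := by
      rw [← Module.End.mul_apply, ← Module.End.mul_apply, hc.eq]
    refine ⟨g' c₂ - c₁, ?_⟩
    rw [comm_apply, map_sub, hgg, ← hc₂, ← hc₁, map_sub, hcv]
    abel
  let θ₀ : V →ₗ[k] V' :=
    ((LinearEquiv.ofInjective ι hι).symm : range ι →ₗ[k] V') ∘ₗ
      (comm π₁ f g).codRestrict (range ι) hθ
  have hθ₀ : ∀ v, ι (θ₀ v) = comm π₁ f g v := by
    intro v
    have h1 := (LinearEquiv.ofInjective ι hι).apply_symm_apply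
      ((comm π₁ f g).codRestrict (range ι) hθ v)
    have h2 := congrArg Subtype.val h1
    rw [LinearEquiv.ofInjective_apply] at h2
    exact h2
  have e1 : comm π₁ f g = ι ∘ₗ θ₀ := LinearMap.ext fun v => (hθ₀ v).symm
  have e2 : θ₀ ∘ₗ ι = comm π' f' g' := by
    refine LinearMap.ext fun x => hι ?_
    rw [LinearMap.comp_apply, hθ₀, comm_apply, comm_apply, map_sub, hgg, ← hπ₁ι, hff, ← hπ₁ι,
      hff, hgg]
  have hfp : IsFP (ι ∘ₗ θ₀) := by
    rw [← e1]
    exact (inE_comm hπ₁ hf hg hc).isFP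
  rw [ftr_comm_indep hπ hπ₁ hf hg hc, e1, ftr_comm ι θ₀ hfp, e2]

/-- The trace of an operator on a finite power of `V` given by a matrix of operators, all of
whose pairwise products have finite rank. -/
theorem ftr_block {ι : Type*} [Fintype ι] [DecidableEq ι] {A : Submodule k V}
    (θ : ι → ι → Module.End k V) (h : ∀ i j, InE A (θ i j)) :
    IsFP (LinearMap.pi fun i => ∑ j, θ i j ∘ₗ LinearMap.proj j : Module.End k (ι → V)) ∧
    ftr (LinearMap.pi fun i => ∑ j, θ i j ∘ₗ LinearMap.proj j : Module.End k (ι → V)) =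
      ∑ i, ftr (θ i i) := by
  set T : ι × ι → Module.End k (ι → V) := fun p =>
    LinearMap.single k (fun _ => V) p.1 ∘ₗ (θ p.1 p.2 ∘ₗ LinearMap.proj p.2) with hT
  have e1 : (LinearMap.pi fun i => ∑ j, θ i j ∘ₗ LinearMap.proj j : Module.End k (ι → V)) =
      ∑ p : ι × ι, T p := by
    refine LinearMap.ext fun x => funext fun i => ?_
    have hL : (LinearMap.pi fun i => ∑ j, θ i j ∘ₗ LinearMap.proj j :
        Module.End k (ι → V)) x i = ∑ j, θ i j (x j) := by
      rw [LinearMap.pi_apply, LinearMap.sum_apply]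
      rfl
    have hR : (∑ p : ι × ι, T p) x i = ∑ i' : ι, ∑ j : ι, (T (i', j) x) i := by
      rw [LinearMap.sum_apply, Finset.sum_apply, Fintype.sum_prod_type]
    rw [hL, hR]
    symm
    rw [Finset.sum_eq_single i]
    · refine Finset.sum_congr rfl fun j _ => ?_
      simp [hT]
    · intro i' _ hi'
      refine Finset.sum_eq_zero fun j _ => ?_
      simp [hT, Pi.single_apply, hi'.symm]
    · intro hi
      exact absurd (Finset.mem_univ i) hi
  have e2 : ∀ p q : ι × ι, T p * T q =
      if p.2 = q.1 then LinearMap.single k (fun _ => V) p.1 ∘ₗ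
        ((θ p.1 p.2 * θ q.1 q.2) ∘ₗ LinearMap.proj q.2) else 0 := by
    intro p q
    refine LinearMap.ext fun x => ?_
    split_ifs with hpq
    · simp only [hT, Module.End.mul_apply, LinearMap.comp_apply, LinearMap.proj_apply,
        LinearMap.single_apply, hpq, Pi.single_eq_same]
    · simp only [hT, Module.End.mul_apply, LinearMap.comp_apply, LinearMap.proj_apply,
        LinearMap.single_apply, LinearMap.zero_apply]
      rw [Pi.single_eq_of_ne hpq, map_zero, Pi.single_zero]
  have hfd : ∀ p ∈ (Finset.univ : Finset (ι × ι)), ∀ q ∈ (Finset.univ : Finset (ι × ι)),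
      FiniteDimensional k (range (T p * T q)) := by
    intro p _ q _
    rw [e2]
    by_cases hpq : p.2 = q.1
    · rw [if_pos hpq, LinearMap.range_comp]
      have h0 := (h p.1 p.2).range_mul (h q.1 q.2)
      have : FiniteDimensional k (range ((θ p.1 p.2 * θ q.1 q.2) ∘ₗ
          LinearMap.proj (R := k) (φ := fun _ : ι => V) q.2)) :=
        Submodule.finiteDimensional_of_le (LinearMap.range_comp_le_range _ _)
      infer_instance
    · rw [if_neg hpq, LinearMap.range_zero]
      infer_instance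
  have hfpΘ : IsFP (∑ p : ι × ι, T p) := by
    refine isFP_of_finiteDimensional_range_sq _ ?_
    rw [Finset.sum_mul]
    refine finiteDimensional_range_sum _ _ fun p hp => ?_
    rw [Finset.mul_sum]
    exact finiteDimensional_range_sum _ _ fun q hq => hfd p hp q hq
  rw [e1]
  refine ⟨hfpΘ, ?_⟩
  rw [ftr_sum_of_mul_finiteRank _ _ hfd, Fintype.sum_prod_type]
  refine Finset.sum_congr rfl fun i _ => ?_
  rw [Finset.sum_eq_single i]
  · have hfp : IsFP (T (i, i)) := isFP_of_finiteDimensional_range_sq _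
      (hfd (i, i) (Finset.mem_univ _) (i, i) (Finset.mem_univ _))
    have := ftr_comm (LinearMap.single k (fun _ => V) i) (θ i i ∘ₗ LinearMap.proj i) hfp
    rw [hT]
    rw [this]
    congr 1
    refine LinearMap.ext fun x => ?_
    simp
  · intro j _ hji
    have hfp : IsFP (T (i, j)) := isFP_of_finiteDimensional_range_sq _
      (hfd (i, j) (Finset.mem_univ _) (i, j) (Finset.mem_univ _))
    have := ftr_comm (LinearMap.single k (fun _ => V) i) (θ i j ∘ₗ LinearMap.proj j) hfp
    rw [hT]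
    rw [this]
    have e0 : (θ i j ∘ₗ LinearMap.proj j) ∘ₗ LinearMap.single k (fun _ => V) i = 0 := by
      refine LinearMap.ext fun x => ?_
      simp only [LinearMap.comp_apply, LinearMap.proj_apply, LinearMap.single_apply,
        LinearMap.zero_apply]
      rw [Pi.single_eq_of_ne hji, map_zero]
    rw [e0]
    exact ftr_eq_zero_of_mul_self 0 (mul_zero 0)
  · intro hi
    exact absurd (Finset.mem_univ i) hi

theorem ftr_comm_sum {ι : Type*} (s : Finset ι) {A : Submodule k V} {π g : Module.End k V}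
    (hπ : IsProjOnto A π) (f : ι → Module.End k V) (hf : ∀ i ∈ s, NearStable A (f i))
    (hg : NearStable A g) (hc : ∀ i ∈ s, Commute (f i) g) :
    ftr (comm π (∑ i ∈ s, f i) g) = ∑ i ∈ s, ftr (comm π (f i) g) := by
  have e : comm π (∑ i ∈ s, f i) g = ∑ i ∈ s, comm π (f i) g := by
    unfold comm
    rw [Finset.mul_sum, Finset.sum_mul, Finset.mul_sum, ← Finset.sum_sub_distrib]
  rw [e]
  refine ftr_sum_of_mul_finiteRank _ _ fun i hi j hj => ?_
  exact (inE_comm hπ (hf i hi) hg (hc i hi)).range_mul (inE_comm hπ (hf j hj) hg (hc j hj))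

end Groth.Agent.H27.Tate
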