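import Mathlib
import Groth.Agent.H27.TrRes.Abs2

/-!
# Tate's trace formula for a finite free extension (R5)
-/

set_option autoImplicit false

namespace Groth.Agent.H27.Tate

open LinearMap

section MulK

variable (k : Type*) [Field k] {K : Type*} [Field K] [Algebra k K]

/-- Multiplication by `u` as a `k`-linear endomorphism. -/
noncomputable def mulK (u : K) : Module.End k K := LinearMap.mulLeft k u

variable {k}

@[simp] theorem mulK_apply (u x : K) : mulK k u x = u * x := rfl

theorem commute_mulK (u v : K) : Commute (mulK k u) (mulK k v) := by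
  show mulK k u * mulK k v = mulK k v * mulK k u
  refine LinearMap.ext fun x => ?_
  simp only [Module.End.mul_apply, mulK_apply]
  ring

theorem mulK_sum {ι : Type*} (s : Finset ι) (f : ι → K) :
    mulK k (∑ i ∈ s, f i) = ∑ i ∈ s, mulK k (f i) := by
  refine LinearMap.ext fun x => ?_
  rw [LinearMap.sum_apply, mulK_apply, Finset.sum_mul]
  rfl

end MulK

section R5

variable {k : Type*} [Field k] {K : Type*} [Field K] [Algebra k K]
  {K' : Type*} [Field K'] [Algebra K K'] [Algebra k K'] [IsScalarTower k K K']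
  {ι : Type*} [Fintype ι] [DecidableEq ι] (b : Module.Basis ι K K') (O : Submodule k K)

/-- Coordinates, as a `k`-linear equivalence. -/
noncomputable def coordE : K' ≃ₗ[k] (ι → K) := b.equivFun.restrictScalars k

@[simp] theorem coordE_apply (z : K') (i : ι) : coordE (k := k) b z i = b.repr z i := rfl

/-- The lattice `⊕ bᵢ O`. -/
noncomputable def latt : Submodule k K' :=
  (Submodule.pi Set.univ fun _ : ι => O).comap (coordE (k := k) b : K' →ₗ[k] (ι → K))

variable {b O}

theorem mem_latt {z : K'} : z ∈ latt b O ↔ ∀ i, b.repr z i ∈ O := by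
  simp [latt, Submodule.mem_pi]

variable (b)

/-- The coordinatewise projector. -/
noncomputable def projLatt (π₀ : Module.End k K) : Module.End k K' :=
  ((coordE (k := k) b).symm : (ι → K) →ₗ[k] K') ∘ₗ
    (LinearMap.pi fun i => π₀ ∘ₗ LinearMap.proj i) ∘ₗ (coordE (k := k) b : K' →ₗ[k] (ι → K))

theorem coordE_projLatt (π₀ : Module.End k K) (z : K') (i : ι) :
    b.repr (projLatt b π₀ z) i = π₀ (b.repr z i) := by
  have : coordE (k := k) b (projLatt b π₀ z) =
      (LinearMap.pi fun i => π₀ ∘ₗ LinearMap.proj i) (coordE (k := k) b z) := by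
    unfold projLatt
    simp only [LinearMap.comp_apply, LinearEquiv.coe_coe, LinearEquiv.apply_symm_apply]
  exact congr_fun this i

theorem isProjOnto_projLatt {π₀ : Module.End k K} (hπ₀ : IsProjOnto O π₀) :
    IsProjOnto (latt b O) (projLatt b π₀) := by
  refine ⟨fun z => mem_latt.2 fun i => ?_, fun z hz => ?_⟩
  · rw [coordE_projLatt]
    exact hπ₀.mem _
  · apply b.repr.injective
    ext i
    rw [coordE_projLatt, hπ₀.id _ (mem_latt.1 hz i)]

theorem repr_mul (y z : K') (i : ι) :
    b.repr (y * z) i = ∑ j, Algebra.leftMulMatrix b y i j * b.repr z j := by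
  rw [← Algebra.leftMulMatrix_mulVec_repr b y z]
  rfl

theorem repr_algebraMap_mul (x : K) (z : K') (i : ι) :
    b.repr (algebraMap K K' x * z) i = x * b.repr z i := by
  rw [← Algebra.smul_def, map_smul, Finsupp.smul_apply, smul_eq_mul]

/-- **(R5)** -/
theorem ftr_comm_latt (hO : ∀ f : K, NearStable O (mulK k f)) {π₀ : Module.End k K}
    (hπ₀ : IsProjOnto O π₀) (y : K') (x : K) :
    ftr (comm (projLatt b π₀) (mulK k y) (mulK k (algebraMap K K' x))) =
      ftr (comm π₀ (mulK k (Algebra.trace K K' y)) (mulK k x)) := by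
  set e : K' ≃ₗ[k] (ι → K) := coordE (k := k) b with he
  set M := Algebra.leftMulMatrix b y with hM
  set θ : Module.End k K' := comm (projLatt b π₀) (mulK k y) (mulK k (algebraMap K K' x)) with hθ
  set Θ : Module.End k (ι → K) := LinearMap.pi fun i =>
    ∑ j, comm π₀ (mulK k (M i j)) (mulK k x) ∘ₗ LinearMap.proj j with hΘ
  have hin : ∀ i j, InE O (comm π₀ (mulK k (M i j)) (mulK k x)) := fun i j =>
    inE_comm hπ₀ (hO _) (hO _) (commute_mulK _ _)
  obtain ⟨hfp, htr⟩ := ftr_block (A := O) (fun i j => comm π₀ (mulK k (M i j)) (mulK k x)) hin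
  have hconj : ((e : K' →ₗ[k] (ι → K)) ∘ₗ θ) ∘ₗ (e.symm : (ι → K) →ₗ[k] K') = Θ := by
    refine LinearMap.ext fun w => funext fun i => ?_
    obtain ⟨z, rfl⟩ := e.surjective w
    simp only [LinearMap.comp_apply, LinearEquiv.coe_coe, LinearEquiv.symm_apply_apply]
    rw [hΘ, LinearMap.pi_apply, LinearMap.sum_apply, hθ, comm_apply, map_sub]
    simp only [mulK_apply, he, Pi.sub_apply, coordE_apply, LinearMap.comp_apply,
      LinearMap.proj_apply, comm_apply]
    rw [repr_algebraMap_mul, coordE_projLatt, coordE_projLatt, repr_mul, repr_mul]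
    simp only [map_sum, Finset.mul_sum]
    rw [← Finset.sum_sub_distrib]
    refine Finset.sum_congr rfl fun j _ => ?_
    rw [repr_algebraMap_mul]
  have h1 : ftr Θ = ftr θ := by
    rw [← hconj, ftr_comm ((e : K' →ₗ[k] (ι → K)) ∘ₗ θ) (e.symm : (ι → K) →ₗ[k] K')
      (by rw [hconj]; exact hfp)]
    congr 1
    refine LinearMap.ext fun z => ?_
    simp
  rw [← h1, htr, Algebra.trace_eq_matrix_trace b y, Matrix.trace, mulK_sum,
    ftr_comm_sum _ hπ₀ _ (fun i _ => hO _) (hO _) (fun i _ => commute_mulK _ _)]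
  rfl

theorem coordE_symm_apply (a : ι → K) (i : ι) :
    b.repr ((coordE (k := k) b).symm a) i = a i := by
  have := (coordE (k := k) b).apply_symm_apply a
  exact congr_fun this i

/-- **The abstract trace formula**: for a subspace `O'` of `K'` commensurable with a lattice
`⊕ bᵢ O`. -/
theorem ftr_comm_trace (hO : ∀ f : K, NearStable O (mulK k f)) {π₀ : Module.End k K}
    (hπ₀ : IsProjOnto O π₀) (O' : Submodule k K') {π' : Module.End k K'}
    (hπ' : IsProjOnto O' π') (hO' : ∀ z : K', NearStable O' (mulK k z))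
    (h1 : O' ≤ latt b O) (t : K) (ht : t ≠ 0)
    (h2 : ∀ z ∈ latt b O, algebraMap K K' t * z ∈ O') (y : K') (x : K) :
    ftr (comm π' (mulK k y) (mulK k (algebraMap K K' x))) =
      ftr (comm π₀ (mulK k (Algebra.trace K K' y)) (mulK k x)) := by
  obtain ⟨U₀, hU₀, hU₀'⟩ := hO t⁻¹
  haveI := hU₀
  set e : K' ≃ₗ[k] (ι → K) := coordE (k := k) b with he
  let Lm : (ι → ↥U₀) →ₗ[k] K' := (e.symm : (ι → K) →ₗ[k] K') ∘ₗ
    (LinearMap.pi fun i => (mulK k t ∘ₗ U₀.subtype) ∘ₗ LinearMap.proj i)
  have hU : latt b O ≤ O' ⊔ range Lm := by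
    intro z hz
    have hc : ∀ i, ∃ a ∈ O, ∃ u ∈ U₀, a + u = t⁻¹ * b.repr z i := fun i =>
      Submodule.mem_sup.1 (hU₀' _ (mem_latt.1 hz i))
    choose a ha u hu hau using hc
    have hz1 : e.symm a ∈ latt b O := mem_latt.2 fun i => by
      rw [he, coordE_symm_apply]; exact ha i
    have hz2 : Lm (fun i => ⟨u i, hu i⟩) ∈ range Lm := ⟨_, rfl⟩
    have ez : z = algebraMap K K' t * e.symm a + Lm (fun i => ⟨u i, hu i⟩) := by
      apply b.repr.injective
      ext i
      rw [map_add, Finsupp.add_apply, repr_algebraMap_mul, he, coordE_symm_apply]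
      show _ = _ + b.repr ((coordE (k := k) b).symm _) i
      rw [coordE_symm_apply]
      show _ = t * a i + t * u i
      rw [← mul_add, hau, ← mul_assoc, mul_inv_cancel₀ ht, one_mul]
    rw [ez]
    exact Submodule.add_mem_sup (h2 _ hz1) hz2
  rw [ftr_comm_of_le hπ' (isProjOnto_projLatt b hπ₀) h1 (range Lm) hU (hO' y) (hO' _)
    (commute_mulK _ _), ftr_comm_latt b hO hπ₀]

end R5

end Groth.Agent.H27.Tate
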