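import Mathlib
import Groth.Prelude.Def_LocRes
import Groth.Agent.H27.Tate.Global
import Groth.Agent.H27.TrRes.R5

/-!
# Tate residues on a field with finitely many expansions: the abstract residue with respect to
the ring of elements integral at all of them is the sum of the traced expansion residues.
-/

set_option autoImplicit false

namespace Groth.Agent.H27.Tate

open LinearMap HahnSeries WithZero

section GenPi

variable {k : Type*} [Field k] {I : Type*} [Fintype I] [DecidableEq I]
  (F : I → Type*) [∀ i, Field (F i)] [∀ i, Algebra k (F i)]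

/-- The product of the Laurent series fields. -/
abbrev VI : Type _ := (i : I) → LaurentSeries (F i)

/-- The componentwise nonnegative part. -/
noncomputable def AI : Submodule k (VI F) := Submodule.pi Set.univ fun _ => Alev k 0

/-- The componentwise truncation. -/
noncomputable def piI : Module.End k (VI F) :=
  LinearMap.pi fun i => tge k 0 ∘ₗ LinearMap.proj i

/-- Componentwise multiplication. -/
noncomputable def mulI (h : VI F) : Module.End k (VI F) :=
  LinearMap.pi fun i => mulL k (h i) ∘ₗ LinearMap.proj i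

/-- Laurent polynomials with exponents in `[-a, 0)` in every component. -/
noncomputable def UI (a : ℤ) : Submodule k (VI F) where
  carrier := {x | ∀ (i : I) (n : ℤ), (n < -a ∨ 0 ≤ n) → (x i).coeff n = 0}
  add_mem' {x y} hx hy i n hn := by
    rw [Pi.add_apply, coeff_add, hx i n hn, hy i n hn, add_zero]
  zero_mem' i n _ := rfl
  smul_mem' c x hx i n hn := by
    rw [Pi.smul_apply, coeff_smul, hx i n hn, smul_zero]

variable {F}

theorem mem_AI {x : VI F} : x ∈ AI (k := k) F ↔ ∀ i, x i ∈ Alev k 0 := by
  simp [AI, Submodule.mem_pi]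

@[simp] theorem piI_apply (x : VI F) (i : I) : piI (k := k) F x i = tge k 0 (x i) := rfl

@[simp] theorem mulI_apply (h x : VI F) (i : I) : mulI (k := k) F h x i = h i * x i := rfl

theorem isProjOnto_piI : IsProjOnto (AI (k := k) F) (piI F) :=
  ⟨fun x => mem_AI.2 fun i => tge_mem 0 (x i),
    fun _x hx => funext fun i => tge_of_mem (mem_AI.1 hx i)⟩

theorem commute_mulI (h₁ h₂ : VI F) : Commute (mulI (k := k) F h₁) (mulI F h₂) := by
  show mulI F h₁ * mulI F h₂ = mulI F h₂ * mulI F h₁
  refine LinearMap.ext fun x => funext fun i => ?_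
  simp only [Module.End.mul_apply, mulI_apply]
  ring

theorem exists_boundI (h : VI F) : ∃ a : ℤ, 0 ≤ a ∧ ∀ i, h i ∈ Alev k (-a) := by
  refine ⟨∑ i : I, max 0 (-(h i).order), Finset.sum_nonneg (fun _ _ => le_max_left _ _),
    fun i n hn => ?_⟩
  have h1 : max 0 (-(h i).order) ≤ ∑ j : I, max 0 (-(h j).order) :=
    Finset.single_le_sum (f := fun j : I => max 0 (-(h j).order))
      (fun _ _ => le_max_left _ _) (Finset.mem_univ i)
  have h2 := le_max_right 0 (-(h i).order)
  exact coeff_eq_zero_of_lt_order (by omega)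

theorem finiteDimensional_UI [∀ i, FiniteDimensional k (F i)] (a : ℤ) :
    FiniteDimensional k (UI (k := k) F a) := by
  let Λ : VI F →ₗ[k] ((i : I) → Fin a.toNat → F i) :=
    LinearMap.pi fun i => LinearMap.pi fun j => cf k ((j : ℕ) - a) ∘ₗ LinearMap.proj i
  have hΛ : ∀ (x : VI F) (i : I) (j : Fin a.toNat), Λ x i j = (x i).coeff ((j : ℕ) - a) :=
    fun _ _ _ => rfl
  have hinj : Function.Injective (Λ.domRestrict (UI (k := k) F a)) := by
    rw [injective_iff_map_eq_zero]
    rintro ⟨x, hx⟩ h0
    refine Subtype.ext (funext fun i => ?_)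
    ext n
    rw [LinearMap.domRestrict_apply] at h0
    by_cases hn : n < -a ∨ 0 ≤ n
    · exact hx i n hn
    · have hj : (n + a).toNat < a.toNat := by omega
      have := congr_fun (congr_fun h0 i) ⟨(n + a).toNat, hj⟩
      rw [hΛ] at this
      have e : (((⟨(n + a).toNat, hj⟩ : Fin a.toNat) : ℕ) : ℤ) - a = n := by
        show ((n + a).toNat : ℤ) - a = n
        omega
      rw [e] at this
      exact this
  exact Module.Finite.of_injective _ hinj

theorem nearStable_mulI [∀ i, FiniteDimensional k (F i)] (h : VI F) :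
    NearStable (AI (k := k) F) (mulI F h) := by
  obtain ⟨a, ha, hh⟩ := exists_boundI (k := k) h
  refine ⟨UI F a, finiteDimensional_UI a, fun x hx => ?_⟩
  have hy : ∀ i, mulI (k := k) F h x i ∈ Alev k (-a) := fun i => by
    have := mul_mem_Alev (hh i) (mem_AI.1 hx i)
    rwa [add_zero] at this
  refine Submodule.mem_sup.2 ⟨piI (k := k) F (mulI (k := k) F h x), isProjOnto_piI.mem _,
    mulI (k := k) F h x - piI (k := k) F (mulI (k := k) F h x), ?_, by abel⟩
  intro i n hn
  rw [Pi.sub_apply, coeff_sub, piI_apply, tge_coeff]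
  rcases hn with hn | hn
  · rw [if_pos (by omega), hy i n hn, sub_zero]
  · rw [if_neg (by omega), sub_self]

variable {K : Type*} [Field K] [Algebra k K] (φ : ∀ i, K →ₐ[k] LaurentSeries (F i))

/-- The diagonal expansion map. -/
noncomputable def PsiI : K →ₗ[k] VI F := LinearMap.pi fun i => expL (φ i)

@[simp] theorem PsiI_apply (x : K) (i : I) : PsiI φ x i = φ i x := rfl

/-- The elements whose expansions are all power series. -/
noncomputable def OI : Submodule k K := (AI (k := k) F).comap (PsiI φ)

variable {φ}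

theorem mem_OI {w : I → Valuation K (WithZero (Multiplicative ℤ))}
    (hφ : ∀ i, LocRes.IsExpansionAt (w i) (φ i)) {x : K} : x ∈ OI φ ↔ ∀ i, w i x ≤ 1 := by
  rw [OI, Submodule.mem_comap, mem_AI]
  refine forall_congr' fun i => ?_
  rw [PsiI_apply, mem_Alev_iff_val, (hφ i).1, neg_zero, exp_zero]

theorem nearStable_OI [∀ i, FiniteDimensional k (F i)] (u : K) :
    NearStable (OI φ) (mulK k u) :=
  (nearStable_mulI (fun i => φ i u)).comap (PsiI φ) (fun x => funext fun i => by
    rw [PsiI_apply, mulK_apply, map_mul, mulI_apply, PsiI_apply])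

/-- The abstract residue with respect to `OI` is the sum of the expansion residues. -/
theorem ftr_comm_OI [Nonempty I] [∀ i, FiniteDimensional k (F i)]
    {w : I → Valuation K (WithZero (Multiplicative ℤ))}
    (hφ : ∀ i, LocRes.IsExpansionAt (w i) (φ i))
    (happ : ∀ x : I → K, ∃ y : K, ∀ i, w i (y - x i) ≤ 1)
    {π' : Module.End k K} (hπ' : IsProjOnto (OI φ) π') (u v : K) :
    ftr (comm π' (mulK k u) (mulK k v)) =
      ∑ i, Algebra.trace k (F i) (LocRes.resExp (φ i) u v) := by
  have hinj : Function.Injective (PsiI φ) := by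
    intro x y hxy
    obtain ⟨i₀⟩ := ‹Nonempty I›
    have := congr_fun hxy i₀
    rw [PsiI_apply, PsiI_apply] at this
    exact (φ i₀).toRingHom.injective this
  have hV : ∀ ξ : VI F, ∃ x : K, ξ - PsiI φ x ∈ AI (k := k) F := by
    intro ξ
    have h1 : ∀ i, ∃ x : K, ξ i - φ i x ∈ Alev k 0 := fun i => density (hφ i) (ξ i)
    choose x hx using h1
    obtain ⟨y, hy⟩ := happ x
    refine ⟨y, mem_AI.2 fun i => ?_⟩
    have h2 : φ i (y - x i) ∈ Alev k 0 := by
      rw [mem_Alev_iff_val, (hφ i).1, neg_zero, exp_zero]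
      exact hy i
    have e : (ξ - PsiI φ y) i = (ξ i - φ i (x i)) - φ i (y - x i) := by
      rw [Pi.sub_apply, PsiI_apply, map_sub]
      abel
    rw [e]
    exact sub_mem (hx i) h2
  have h0 := ftr_comm_of_injective (PsiI φ) hinj hV (isProjOnto_piI (k := k) (F := F)) hπ'
    (nearStable_mulI (fun i => φ i u)) (nearStable_mulI (fun i => φ i v)) (commute_mulI _ _)
    (f' := mulK k u) (g' := mulK k v)
    (fun x => funext fun i => by rw [PsiI_apply, mulK_apply, map_mul, mulI_apply, PsiI_apply])
    (fun x => funext fun i => by rw [PsiI_apply, mulK_apply, map_mul, mulI_apply, PsiI_apply])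
  have hcomm : comm (piI (k := k) F) (mulI F fun i => φ i u) (mulI F fun i => φ i v) =
      LinearMap.pi fun i : I => thetaL k (φ i u) (φ i v) ∘ₗ LinearMap.proj i :=
    LinearMap.ext fun x => funext fun i => rfl
  rw [← h0, hcomm, ftr_pi (fun i : I => thetaL k (φ i u) (φ i v)) (fun i => (ftr_thetaL _ _).1)]
  refine Finset.sum_congr rfl fun i _ => ?_
  rw [(ftr_thetaL _ _).2]
  rfl

end GenPi

end Groth.Agent.H27.Tate
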