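import Mathlib
import Groth.Agent.H55.FFOver
import Groth.Agent.H55.FFUnram

/-!
# The trace of an element integral at all places over `P` is integral at `P`
-/

set_option autoImplicit false

namespace Groth.Agent.H27.TrRes

open FunFld Groth.Agent.H55 WithZero

section

variable {k K K' N : Type*} [Field k] [Field K] [Field K'] [Field N] [Algebra k K] [Algebra k K']
  [Algebra K K'] [IsScalarTower k K K'] [Algebra k N] [Algebra K N] [IsScalarTower k K N]

theorem val_le_one_of_tower [Algebra K' N] [IsScalarTower K K' N] [IsScalarTower k K' N]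
    [FiniteDimensional K' N] [FiniteDimensional K K']
    (hK : G.IsFF1 k K) (P : Place k K) (Q'' : Place k N) (hQ'' : IsOver Q'' P) (z : K')
    (hz : ∀ Q : Place k K', IsOver Q P → Q.1 z ≤ 1) : Q''.1 (algebraMap K' N z) ≤ 1 := by
  have hK' : G.IsFF1 k K' := isFF1_of_finite hK
  obtain ⟨Q, e', hQ⟩ := exists_place_under (K := K') (K' := N) hK' Q''
  obtain ⟨P', e₀, hP'⟩ := exists_place_under (K := K) (K' := K') hK Q
  obtain ⟨e, he⟩ := hQ''
  have h1 : IsOverWith Q'' P' (e₀ * e') := fun x => by
    rw [IsScalarTower.algebraMap_apply K K' N, hQ, hP', pow_mul]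
  have hPP : P = P' := (isOverWith_unique he h1).1
  subst hPP
  rw [hQ z]
  exact pow_le_one₀ zero_le' (hz Q ⟨e₀, hP'⟩)

end

section

variable {k K K' : Type*} [Field k] [Field K] [Field K'] [Algebra k K] [Algebra k K']
  [Algebra K K'] [IsScalarTower k K K']

theorem trace_le_one [FiniteDimensional K K'] [Algebra.IsSeparable K K'] (hK : G.IsFF1 k K)
    (P : Place k K) (z : K') (hz : ∀ Q : Place k K', IsOver Q P → Q.1 z ≤ 1) :
    P.1 (Algebra.trace K K' z) ≤ 1 := by
  classical
  let E := AlgebraicClosure K'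
  let N : IntermediateField K E := IntermediateField.normalClosure K K' E
  haveI : FiniteDimensional K N := inferInstanceAs (FiniteDimensional K (IntermediateField.normalClosure K K' E))
  obtain ⟨Q'', e, hQ''⟩ := exists_place_over (K' := N) hK P
  have key : ∀ σ : K' →ₐ[K] E, ∃ n : N, (n : E) = σ z ∧ Q''.1 n ≤ 1 := by
    intro σ
    have hσ : σ.fieldRange ≤ N := AlgHom.fieldRange_le_normalClosure σ
    let τ : K' →ₐ[K] N := (IntermediateField.inclusion hσ).comp σ.rangeRestrict
    letI : Algebra K' N := τ.toRingHom.toAlgebra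
    haveI : IsScalarTower K K' N := IsScalarTower.of_algebraMap_eq (fun x => (τ.commutes x).symm)
    haveI : IsScalarTower k K' N := IsScalarTower.of_algebraMap_eq (fun c => by
      show algebraMap k N c = τ (algebraMap k K' c)
      rw [IsScalarTower.algebraMap_apply k K K', τ.commutes, ← IsScalarTower.algebraMap_apply])
    haveI : FiniteDimensional K' N := FiniteDimensional.right K K' N
    exact ⟨τ z, rfl, val_le_one_of_tower hK P Q'' ⟨e, hQ''⟩ z hz⟩
  choose n hn1 hn2 using key
  have htr : algebraMap K E (Algebra.trace K K' z) = ∑ σ : K' →ₐ[K] E, σ z :=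
    trace_eq_sum_embeddings E
  have h2 : algebraMap K N (Algebra.trace K K' z) = ∑ σ : K' →ₐ[K] E, n σ := by
    apply Subtype.ext
    show algebraMap K E (Algebra.trace K K' z) = _
    rw [htr]
    push_cast
    exact Finset.sum_congr rfl fun σ _ => (hn1 σ).symm
  have h3 : Q''.1 (algebraMap K N (Algebra.trace K K' z)) ≤ 1 := by
    rw [h2]
    exact Valuation.map_sum_le _ (fun σ _ => hn2 σ)
  rw [hQ''] at h3
  by_contra hcon
  rw [not_le] at hcon
  exact absurd h3 (not_le.mpr (one_lt_pow₀ hcon (isOverWith_pos hQ'').ne'))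

end

end Groth.Agent.H27.TrRes
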