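import Mathlib
import Groth.Prelude.Def_LocRes
import Groth.Prelude.Def_W4bk4goldsch23FF
import Groth.Prelude.Def_W4bk4goldsch23Ext
import Groth.Agent.H27.TrRes.GenPi
import Groth.Agent.H27.TrRes.TrInt

/-!
# The residue–trace formula for a finite separable extension of function fields
-/

set_option autoImplicit false

namespace Groth.Agent.H27.Tate

open LinearMap HahnSeries WithZero FunFld Groth.Agent.H55

theorem exists_isProjOnto {k : Type*} [Field k] {V : Type*} [AddCommGroup V] [Module k V]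
    (A : Submodule k V) : ∃ π : Module.End k V, IsProjOnto A π := by
  obtain ⟨C, hC⟩ := Submodule.exists_isCompl A
  exact ⟨A.projection C hC, fun v => Submodule.projection_apply_mem hC v,
    fun a ha => Submodule.projection_apply_of_mem_left hC ha⟩

universe u v w

variable {k : Type u} {K K' : Type v} [Field k] [Field K] [Field K'] [Algebra k K] [Algebra K K']
  [Algebra k K'] [IsScalarTower k K K']

/-- Multiplying by a high power of a uniformizer below makes an element integral above. -/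
theorem exists_pow_mul_le_one (Qs : Finset (Place k K')) (t₀ : K)
    (ht₀ : ∀ Q ∈ Qs, Q.1 (algebraMap K K' t₀) ≤ exp (-1)) (w : K') :
    ∃ m : ℕ, ∀ m' : ℕ, m ≤ m' → ∀ Q ∈ Qs, Q.1 (algebraMap K K' t₀ ^ m' * w) ≤ 1 := by
  refine ⟨Qs.sup (fun Q => (log (Q.1 w)).toNat), fun m' hm' Q hQ => ?_⟩
  by_cases hw : Q.1 w = 0
  · rw [map_mul, hw, mul_zero]; exact zero_le'
  · have h1 : (log (Q.1 w)).toNat ≤ m' :=
      (Finset.le_sup (f := fun Q : Place k K' => (log (Q.1 w)).toNat) hQ).trans hm'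
    have h2 : Q.1 w ≤ exp (m' : ℤ) := by
      rw [← exp_log hw, exp_le_exp]
      have := Int.self_le_toNat (log (Q.1 w))
      omega
    have h3 : Q.1 (algebraMap K K' t₀ ^ m') ≤ exp (-(m' : ℤ)) := by
      rw [map_pow]
      calc Q.1 (algebraMap K K' t₀) ^ m' ≤ exp (-1) ^ m' := pow_le_pow_left₀ zero_le' (ht₀ Q hQ) m'
        _ = exp (-(m' : ℤ)) := by rw [← exp_nsmul]; congr 1; simp
    rw [map_mul]
    calc Q.1 (algebraMap K K' t₀ ^ m') * Q.1 w ≤ exp (-(m' : ℤ)) * exp (m' : ℤ) :=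
          mul_le_mul' h3 h2
      _ = 1 := by rw [← exp_add, neg_add_cancel, exp_zero]

theorem exists_pow_mul_le_one_fin {ι : Type*} [Fintype ι] (Qs : Finset (Place k K')) (t₀ : K)
    (ht₀ : ∀ Q ∈ Qs, Q.1 (algebraMap K K' t₀) ≤ exp (-1)) (w : ι → K') :
    ∃ m : ℕ, ∀ i, ∀ Q ∈ Qs, Q.1 (algebraMap K K' t₀ ^ m * w i) ≤ 1 := by
  choose m hm using fun i => exists_pow_mul_le_one Qs t₀ ht₀ (w i)
  exact ⟨Finset.univ.sup m, fun i Q hQ =>
    hm i _ (Finset.le_sup (f := m) (Finset.mem_univ i)) Q hQ⟩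

/-- **The residue–trace formula** for function fields. -/
theorem locRes_trace_eq_sum [FiniteDimensional K K'] [Algebra.IsSeparable K K']
    (hK : FunFld.IsFunctionField k K) (P : FunFld.Place k K)
    (F : Type w) [Field F] [Algebra k F] [FiniteDimensional k F]
    (φ : K →ₐ[k] LaurentSeries F) (hφ : LocRes.IsExpansionAt P.1 φ)
    (Qs : Finset (FunFld.Place k K')) (hQs : ∀ Q, Q ∈ Qs ↔ FunFld.IsOver Q P)
    (F' : FunFld.Place k K' → Type w) [∀ Q, Field (F' Q)] [∀ Q, Algebra k (F' Q)]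
    [∀ Q, FiniteDimensional k (F' Q)]
    (ψ : ∀ Q, K' →ₐ[k] LaurentSeries (F' Q)) (hψ : ∀ Q ∈ Qs, LocRes.IsExpansionAt Q.1 (ψ Q))
    (y : K') (x : K) :
    LocRes.locRes φ (Algebra.trace K K' y) x =
      ∑ Q ∈ Qs, LocRes.locRes (ψ Q) y (algebraMap K K' x) := by
  classical
  have hK1 : G.IsFF1 k K := G.isFF1_of_isFunctionField hK
  -- index data
  let φ₀ : ∀ _ : Unit, K →ₐ[k] LaurentSeries F := fun _ => φ
  let ψ₁ : ∀ Q : ↥Qs, K' →ₐ[k] LaurentSeries (F' Q.1) := fun Q => ψ Q.1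
  have hφ₀ : ∀ i : Unit, LocRes.IsExpansionAt ((fun _ => P.1) i) (φ₀ i) := fun _ => hφ
  have hψ₁ : ∀ Q : ↥Qs, LocRes.IsExpansionAt ((fun Q : ↥Qs => Q.1.1) Q) (ψ₁ Q) :=
    fun Q => hψ Q.1 Q.2
  haveI : Nonempty ↥Qs := by
    obtain ⟨Q, hQ⟩ := exists_place_over (K' := K') hK1 P
    exact ⟨⟨Q, (hQs Q).2 hQ⟩⟩
  set O : Submodule k K := OI (F := fun _ : Unit => F) φ₀ with hOd
  set O' : Submodule k K' := OI (F := fun Q : ↥Qs => F' Q.1) ψ₁ with hO'd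
  have memO : ∀ {f : K}, f ∈ O ↔ P.1 f ≤ 1 := fun {f} => by
    rw [hOd, mem_OI hφ₀]
    exact ⟨fun h => h (), fun h _ => h⟩
  have memO' : ∀ {z : K'}, z ∈ O' ↔ ∀ Q ∈ Qs, Q.1 z ≤ 1 := fun {z} => by
    rw [hO'd, mem_OI hψ₁]
    exact ⟨fun h Q hQ => h ⟨Q, hQ⟩, fun h Q => h Q.1 Q.2⟩
  obtain ⟨π₀, hπ₀⟩ := exists_isProjOnto O
  obtain ⟨π', hπ'⟩ := exists_isProjOnto O'
  have happ₀ : ∀ x : Unit → K, ∃ y : K, ∀ i, (fun _ : Unit => P.1) i (y - x i) ≤ 1 :=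
    fun x => ⟨x (), fun _ => by simp⟩
  have happ₁ : ∀ x : ↥Qs → K', ∃ y : K', ∀ Q : ↥Qs, (fun Q : ↥Qs => Q.1.1) Q (y - x Q) ≤ 1 := by
    intro x
    obtain ⟨y, hy⟩ := weak_approx_le Qs (fun Q => if h : Q ∈ Qs then x ⟨Q, h⟩ else 0) (fun _ => 0)
    refine ⟨y, fun Q => ?_⟩
    have := hy Q.1 Q.2
    rw [dif_pos Q.2, exp_zero] at this
    exact this
  have hbot := ftr_comm_OI (F := fun _ : Unit => F) hφ₀ happ₀ hπ₀ (Algebra.trace K K' y) x
  have htop := ftr_comm_OI (F := fun Q : ↥Qs => F' Q.1) hψ₁ happ₁ hπ' y (algebraMap K K' x)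
  -- the lattice
  obtain ⟨t₀, ht₀0, ht₀⟩ := pl_exists_val_eq_exp P (-1)
  have ht₀Q : ∀ Q ∈ Qs, Q.1 (algebraMap K K' t₀) ≤ exp (-1) := by
    intro Q hQ
    obtain ⟨e, he⟩ := (hQs Q).1 hQ
    rw [he, ht₀]
    have he0 := isOverWith_pos he
    calc exp (-1 : ℤ) ^ e ≤ exp (-1 : ℤ) ^ 1 :=
          pow_le_pow_of_le_one zero_le' (by rw [← exp_zero, exp_le_exp]; omega) he0
      _ = exp (-1) := pow_one _
  have hOQ : ∀ c ∈ O, ∀ Q ∈ Qs, Q.1 (algebraMap K K' c) ≤ 1 := by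
    intro c hc Q hQ
    obtain ⟨e, he⟩ := (hQs Q).1 hQ
    rw [he]
    exact pow_le_one₀ zero_le' (memO.1 hc)
  let b₀ := Module.finBasis K K'
  obtain ⟨m₁, hm₁⟩ := exists_pow_mul_le_one_fin Qs t₀ ht₀Q (fun i => b₀ i)
  let b₁ := b₀.isUnitSMul (w := fun _ => t₀ ^ m₁) (fun _ => (IsUnit.mk0 _ (pow_ne_zero _ ht₀0)))
  have hb₁ : ∀ i, ∀ Q ∈ Qs, Q.1 (b₁ i) ≤ 1 := by
    intro i Q hQ
    have := hm₁ i Q hQ
    rw [← map_pow, ← Algebra.smul_def] at this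
    rw [show b₁ i = t₀ ^ m₁ • b₀ i from Module.Basis.isUnitSMul_apply _ i]
    exact this
  let b := (Algebra.traceForm K K').dualBasis (traceForm_nondegenerate K K') b₁
  have h1 : O' ≤ latt b O := by
    intro z hz
    refine mem_latt.2 fun i => memO.2 ?_
    rw [BilinForm.dualBasis_repr_apply, Algebra.traceForm_apply]
    refine TrRes.trace_le_one hK1 P _ fun Q hQ => ?_
    rw [map_mul]
    exact mul_le_one' (memO'.1 hz Q ((hQs Q).2 hQ)) (hb₁ i Q ((hQs Q).2 hQ))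
  obtain ⟨m₂, hm₂⟩ := exists_pow_mul_le_one_fin Qs t₀ ht₀Q (fun i => b i)
  have h2 : ∀ z ∈ latt b O, algebraMap K K' (t₀ ^ m₂) * z ∈ O' := by
    intro z hz
    refine memO'.2 fun Q hQ => ?_
    rw [← b.sum_repr z, Finset.mul_sum]
    refine Valuation.map_sum_le _ fun i _ => ?_
    rw [Algebra.smul_def, mul_left_comm, map_mul, map_pow]
    exact mul_le_one' (hOQ _ (mem_latt.1 hz i) Q hQ) (hm₂ i Q hQ)
  have hT := ftr_comm_trace b (fun f => nearStable_OI (φ := φ₀) f) hπ₀ O' hπ'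
    (fun z => nearStable_OI (φ := ψ₁) z) h1 (t₀ ^ m₂) (pow_ne_zero _ ht₀0) h2 y x
  rw [Fintype.sum_unique] at hbot
  rw [htop, hbot] at hT
  rw [← Finset.sum_coe_sort Qs (fun Q => LocRes.locRes (ψ Q) y (algebraMap K K' x))]
  exact hT.symm

end Groth.Agent.H27.Tate
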