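import Mathlib
import Groth.Prelude.Def_LocRes
import Groth.Prelude.Def_W4bk4goldsch23FF
import Groth.Prelude.Def_W4bk4goldsch23Ext
import Groth.Agent.H27.TrRes.FFTrace
import Groth.Agent.H27.TrRes.Abs3

/-!
# Lattices in a finite separable extension of function fields and Tate residues (no expansions
needed at the places above)
-/

set_option autoImplicit false

namespace Groth.Agent.H27.Tate

open LinearMap HahnSeries WithZero FunFld Groth.Agent.H55

section IntAt

variable {k : Type*} {K : Type*} [Field k] [Field K] [Algebra k K]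

/-- The elements integral at all places of `S`. -/
def intAt (S : Finset (Place k K)) : Submodule k K where
  carrier := {x | ∀ P ∈ S, P.1 x ≤ 1}
  add_mem' {x y} hx hy P hP := (P.1.map_add x y).trans (max_le (hx P hP) (hy P hP))
  zero_mem' P _ := by simp
  smul_mem' c x hx P hP := by
    rw [Algebra.smul_def, map_mul]
    exact (mul_le_mul' (P.2.1 c) (hx P hP)).trans_eq (one_mul _)

theorem mem_intAt {S : Finset (Place k K)} {x : K} : x ∈ intAt S ↔ ∀ P ∈ S, P.1 x ≤ 1 := Iff.rfl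

theorem mem_intAt_singleton {P : Place k K} {x : K} : x ∈ intAt {P} ↔ P.1 x ≤ 1 := by
  rw [mem_intAt]
  exact ⟨fun h => h P (Finset.mem_singleton_self P), fun h Q hQ => by
    rw [Finset.mem_singleton.1 hQ]; exact h⟩

theorem intAt_mono {S T : Finset (Place k K)} (h : S ⊆ T) : intAt T ≤ intAt S :=
  fun _ hx P hP => hx P (h hP)

end IntAt

section Latt

variable {k : Type*} [Field k] {K : Type*} [Field K] [Algebra k K]
  {K' : Type*} [Field K'] [Algebra K K'] [Algebra k K'] [IsScalarTower k K K']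
  {ι : Type*} [Fintype ι] [DecidableEq ι] (b : Module.Basis ι K K') {O : Submodule k K}

theorem nearStable_latt (hO : ∀ f : K, NearStable O (mulK k f)) (z : K') :
    NearStable (latt b O) (mulK k z) := by
  classical
  set M := Algebra.leftMulMatrix b z with hM
  choose U hU hUM using fun p : ι × ι => hO (M p.1 p.2)
  haveI := hU
  let U₀ : Submodule k K := ⨆ p, U p
  haveI : FiniteDimensional k U₀ := Submodule.finiteDimensional_iSup _
  set e : K' ≃ₗ[k] (ι → K) := coordE (k := k) b with he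
  let Lm : (ι → ↥U₀) →ₗ[k] K' := (e.symm : (ι → K) →ₗ[k] K') ∘ₗ
    (LinearMap.pi fun i => U₀.subtype ∘ₗ LinearMap.proj i)
  refine ⟨range Lm, inferInstance, fun w hw => ?_⟩
  have hc : ∀ i, b.repr (z * w) i ∈ O ⊔ U₀ := fun i => by
    rw [repr_mul]
    refine Submodule.sum_mem _ fun j _ => ?_
    exact (sup_le_sup_left (le_iSup U (i, j)) O) (hUM (i, j) _ (mem_latt.1 hw j))
  choose a ha u hu hau using fun i => Submodule.mem_sup.1 (hc i)
  have e1 : mulK k z w = e.symm a + Lm (fun i => ⟨u i, hu i⟩) := by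
    apply b.repr.injective
    ext i
    rw [map_add, Finsupp.add_apply, he, coordE_symm_apply]
    show _ = _ + b.repr ((coordE (k := k) b).symm _) i
    rw [coordE_symm_apply]
    exact (hau i).symm
  rw [e1]
  refine Submodule.add_mem_sup (mem_latt.2 fun i => ?_) ⟨_, rfl⟩
  rw [he, coordE_symm_apply]
  exact ha i

/-- If `t • latt ⊆ O'` then `latt ⊆ O' + (finite-dimensional)`. -/
theorem latt_le_sup (hO : ∀ f : K, NearStable O (mulK k f)) (O' : Submodule k K') (t : K)
    (ht : t ≠ 0) (h2 : ∀ z ∈ latt b O, algebraMap K K' t * z ∈ O') :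
    ∃ U : Submodule k K', FiniteDimensional k U ∧ latt b O ≤ O' ⊔ U := by
  obtain ⟨U₀, hU₀, hU₀'⟩ := hO t⁻¹
  haveI := hU₀
  set e : K' ≃ₗ[k] (ι → K) := coordE (k := k) b with he
  let Lm : (ι → ↥U₀) →ₗ[k] K' := (e.symm : (ι → K) →ₗ[k] K') ∘ₗ
    (LinearMap.pi fun i => (mulK k t ∘ₗ U₀.subtype) ∘ₗ LinearMap.proj i)
  refine ⟨range Lm, inferInstance, ?_⟩
  intro z hz
  have hc : ∀ i, ∃ a ∈ O, ∃ u ∈ U₀, a + u = t⁻¹ * b.repr z i := fun i =>
    Submodule.mem_sup.1 (hU₀' _ (mem_latt.1 hz i))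
  choose a ha u hu hau using hc
  have hz1 : e.symm a ∈ latt b O := mem_latt.2 fun i => by
    rw [he, coordE_symm_apply]; exact ha i
  have hz2 : Lm (fun i => ⟨u i, hu i⟩) ∈ range Lm := ⟨_, rfl⟩
  have ez : z = algebraMap K K' t * e.symm a + Lm (fun i => ⟨u i, hu i⟩) := by
    apply b.repr.injective
    ext i
    rw [map_add, Finsupp.add_apply, repr_algebraMap_mul, he, coordE_symm_apply]
    show _ = _ + b.repr ((coordE (k := k) b).symm _) i
    rw [coordE_symm_apply]
    show _ = t * a i + t * u i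
    rw [← mul_add, hau, ← mul_assoc, mul_inv_cancel₀ ht, one_mul]
  rw [ez]
  exact Submodule.add_mem_sup (h2 _ hz1) hz2

end Latt

section FF

universe u v

variable {k : Type u} {K K' : Type v} [Field k] [Field K] [Field K'] [Algebra k K] [Algebra K K']
  [Algebra k K'] [IsScalarTower k K K']

/-- The lattice sandwich: `O' ≤ ⊕ bᵢ O_P` and `t • ⊕ bᵢ O_P ≤ O'`. -/
theorem exists_lattice [FiniteDimensional K K'] [Algebra.IsSeparable K K']
    (hK : FunFld.IsFunctionField k K) (P : FunFld.Place k K)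
    (Qs : Finset (FunFld.Place k K')) (hQs : ∀ Q, Q ∈ Qs ↔ FunFld.IsOver Q P) :
    ∃ (b : Module.Basis (Fin (Module.finrank K K')) K K') (t : K), t ≠ 0 ∧
      intAt Qs ≤ latt b (intAt {P}) ∧
      ∀ z ∈ latt b (intAt ({P} : Finset (Place k K))), algebraMap K K' t * z ∈ intAt Qs := by
  classical
  have hK1 : G.IsFF1 k K := G.isFF1_of_isFunctionField hK
  obtain ⟨t₀, ht₀0, ht₀⟩ := pl_exists_val_eq_exp P (-1)
  have ht₀Q : ∀ Q ∈ Qs, Q.1 (algebraMap K K' t₀) ≤ exp (-1) := by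
    intro Q hQ
    obtain ⟨e, he⟩ := (hQs Q).1 hQ
    rw [he, ht₀]
    have he0 := isOverWith_pos he
    calc exp (-1 : ℤ) ^ e ≤ exp (-1 : ℤ) ^ 1 :=
          pow_le_pow_of_le_one zero_le' (by rw [← exp_zero, exp_le_exp]; omega) he0
      _ = exp (-1) := pow_one _
  have hOQ : ∀ c ∈ intAt ({P} : Finset (Place k K)), ∀ Q ∈ Qs,
      Q.1 (algebraMap K K' c) ≤ 1 := by
    intro c hc Q hQ
    obtain ⟨e, he⟩ := (hQs Q).1 hQ
    rw [he]
    exact pow_le_one₀ zero_le' (mem_intAt_singleton.1 hc)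
  let b₀ := Module.finBasis K K'
  obtain ⟨m₁, hm₁⟩ := exists_pow_mul_le_one_fin Qs t₀ ht₀Q (fun i => b₀ i)
  let b₁ := b₀.isUnitSMul (w := fun _ => t₀ ^ m₁) (fun _ => (IsUnit.mk0 _ (pow_ne_zero _ ht₀0)))
  have hb₁ : ∀ i, ∀ Q ∈ Qs, Q.1 (b₁ i) ≤ 1 := by
    intro i Q hQ
    have := hm₁ i Q hQ
    rw [← map_pow, ← Algebra.smul_def] at this
    rw [show b₁ i = t₀ ^ m₁ • b₀ i from Module.Basis.isUnitSMul_apply _ i]
    exact this
  let b := (Algebra.traceForm K K').dualBasis (traceForm_nondegenerate K K') b₁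
  have h1 : intAt Qs ≤ latt b (intAt {P}) := by
    intro z hz
    refine mem_latt.2 fun i => mem_intAt_singleton.2 ?_
    rw [BilinForm.dualBasis_repr_apply, Algebra.traceForm_apply]
    refine TrRes.trace_le_one hK1 P _ fun Q hQ => ?_
    rw [map_mul]
    exact mul_le_one' (hz Q ((hQs Q).2 hQ)) (hb₁ i Q ((hQs Q).2 hQ))
  obtain ⟨m₂, hm₂⟩ := exists_pow_mul_le_one_fin Qs t₀ ht₀Q (fun i => b i)
  refine ⟨b, t₀ ^ m₂, pow_ne_zero _ ht₀0, h1, ?_⟩
  intro z hz Q hQ
  rw [← b.sum_repr z, Finset.mul_sum]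
  refine Valuation.map_sum_le _ fun i _ => ?_
  rw [Algebra.smul_def, mul_left_comm, map_mul, map_pow]
  exact mul_le_one' (hOQ _ (mem_latt.1 hz i) Q hQ) (hm₂ i Q hQ)

end FF

end Groth.Agent.H27.Tate
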