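import Mathlib
import Groth.Agent.H27.TrRes.Diff1

/-!
# The residue–trace formula with an expansion at a single place above
-/

set_option autoImplicit false

namespace Groth.Agent.H27.Tate

open LinearMap HahnSeries WithZero FunFld Groth.Agent.H55

universe u v w

section IntAtNe

variable {k : Type*} {K : Type*} [Field k] [Field K] [Algebra k K]

/-- The elements integral at all places of `S` other than `Q`. -/
def intAtNe (S : Finset (Place k K)) (Q : Place k K) : Submodule k K where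
  carrier := {x | ∀ P ∈ S, P ≠ Q → P.1 x ≤ 1}
  add_mem' {x y} hx hy P hP hne :=
    (P.1.map_add x y).trans (max_le (hx P hP hne) (hy P hP hne))
  zero_mem' P _ _ := by simp
  smul_mem' c x hx P hP hne := by
    rw [Algebra.smul_def, map_mul]
    exact (mul_le_mul' (P.2.1 c) (hx P hP hne)).trans_eq (one_mul _)

theorem mem_intAtNe {S : Finset (Place k K)} {Q : Place k K} {x : K} :
    x ∈ intAtNe S Q ↔ ∀ P ∈ S, P ≠ Q → P.1 x ≤ 1 := Iff.rfl

theorem intAt_le_intAtNe (S : Finset (Place k K)) (Q : Place k K) : intAt S ≤ intAtNe S Q :=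
  fun _ hx P hP _ => hx P hP

theorem intAt_eq_inf {S : Finset (Place k K)} {Q : Place k K} (hQ : Q ∈ S) :
    intAt S = intAt {Q} ⊓ intAtNe S Q := by
  ext x
  rw [Submodule.mem_inf, mem_intAt_singleton, mem_intAt, mem_intAtNe]
  constructor
  · exact fun h => ⟨h Q hQ, fun P hP _ => h P hP⟩
  · rintro ⟨h1, h2⟩ P hP
    by_cases hPQ : P = Q
    · rw [hPQ]; exact h1
    · exact h2 P hP hPQ

theorem sup_intAtNe_eq_top {S : Finset (Place k K)} {Q : Place k K} (hQ : Q ∈ S) :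
    intAt {Q} ⊔ intAtNe S Q = ⊤ := by
  classical
  rw [eq_top_iff]
  intro v _
  obtain ⟨b', hb'⟩ := weak_approx_le S (fun P => if P = Q then v else 0) (fun _ => 0)
  have h1 : v - b' ∈ intAt {Q} := by
    rw [mem_intAt_singleton]
    have := hb' Q hQ
    rw [if_pos rfl, exp_zero] at this
    rw [← Valuation.map_neg, neg_sub]
    exact this
  have h2 : b' ∈ intAtNe S Q := by
    intro P hP hne
    have := hb' P hP
    rwa [if_neg hne, sub_zero, exp_zero] at this
  have := Submodule.add_mem_sup h1 h2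
  rwa [sub_add_cancel] at this

theorem nearStable_intAtNe (Qs : Finset (Place k K)) (Q : Place k K) (τ₀ : K)
    (hτ₀Q : ∀ Q' ∈ Qs, Q'.1 τ₀ ≤ exp (-1)) (hτ₀0 : τ₀ ≠ 0)
    (hpow : ∀ z : K, ∃ j : ℕ, ∀ Q' ∈ Qs, Q'.1 (τ₀ ^ j * z) ≤ 1)
    (hO' : ∀ z : K, NearStable (intAt Qs) (mulK k z)) (z : K) :
    NearStable (intAtNe Qs Q) (mulK k z) := by
  classical
  obtain ⟨j, hj⟩ := hpow z
  set τ : K := τ₀ ^ j with hτ
  have hτ0 : τ ≠ 0 := pow_ne_zero _ hτ₀0
  have hτle : ∀ Q' ∈ Qs, Q'.1 τ ≤ 1 := fun Q' hQ' => by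
    rw [hτ, map_pow]
    exact pow_le_one₀ zero_le' ((hτ₀Q Q' hQ').trans (by rw [← exp_zero, exp_le_exp]; omega))
  obtain ⟨U, hU, hUle⟩ := hO' τ⁻¹
  refine ⟨U, hU, fun b hb => ?_⟩
  obtain ⟨a', ha'⟩ := weak_approx_le Qs (fun Q' => if Q' = Q then 0 else τ * z * b)
    (fun Q' => if Q' = Q then 0 else log (Q'.1 τ))
  have hvτ : ∀ Q' : Place k K, exp (log (Q'.1 τ)) = Q'.1 τ := fun Q' =>
    exp_log ((Q'.1.ne_zero_iff).2 hτ0)
  have ha'O : a' ∈ intAt Qs := by
    intro Q' hQ'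
    have h1 := ha' Q' hQ'
    by_cases hQQ : Q' = Q
    · rw [if_pos hQQ, if_pos hQQ, sub_zero, exp_zero] at h1
      exact h1
    · rw [if_neg hQQ, if_neg hQQ, hvτ] at h1
      have h2 : Q'.1 (τ * z * b) ≤ 1 := by
        rw [map_mul]
        exact mul_le_one' (hj Q' hQ') (hb Q' hQ' hQQ)
      have : a' = (a' - τ * z * b) + τ * z * b := by ring
      rw [this]
      exact (Q'.1.map_add _ _).trans (max_le (h1.trans (hτle Q' hQ')) h2)
  have e : mulK k z b = τ⁻¹ * (τ * z * b - a') + τ⁻¹ * a' := by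
    rw [mulK_apply]
    field_simp
    ring
  have h1 : τ⁻¹ * (τ * z * b - a') ∈ intAtNe Qs Q := by
    intro Q' hQ' hQQ
    have h1 := ha' Q' hQ'
    rw [if_neg hQQ, if_neg hQQ, hvτ] at h1
    rw [map_mul, map_inv₀, show τ * z * b - a' = -(a' - τ * z * b) by ring, Valuation.map_neg]
    exact (inv_mul_le_iff₀ (zero_lt_iff.2 ((Q'.1.ne_zero_iff).2 hτ0))).2 (by rwa [mul_one])
  have h2 : τ⁻¹ * a' ∈ intAtNe Qs Q ⊔ U :=
    (sup_le_sup_right (intAt_le_intAtNe Qs Q) U) (hUle a' ha'O)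
  rw [e]
  have h3 : τ⁻¹ * (τ * z * b - a') ∈ intAtNe Qs Q ⊔ U := Submodule.mem_sup_left h1
  exact add_mem h3 h2

end IntAtNe

variable {k : Type u} {K K' : Type v} [Field k] [Field K] [Field K'] [Algebra k K] [Algebra K K']
  [Algebra k K'] [IsScalarTower k K K']

theorem intAt_singleton_eq_OI {F : Type w} [Field F] [Algebra k F] (P : Place k K)
    (φ : K →ₐ[k] LaurentSeries F) (hφ : LocRes.IsExpansionAt P.1 φ) :
    intAt ({P} : Finset (Place k K)) = OI (F := fun _ : Unit => F) (fun _ : Unit => φ) := by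
  ext x
  rw [mem_intAt_singleton, mem_OI (w := fun _ => P.1) (fun _ => hφ)]
  exact ⟨fun h _ => h, fun h => h ()⟩

theorem nearStable_intAt_singleton {F : Type w} [Field F] [Algebra k F] [FiniteDimensional k F]
    (P : Place k K) (φ : K →ₐ[k] LaurentSeries F) (hφ : LocRes.IsExpansionAt P.1 φ) (f : K) :
    NearStable (intAt ({P} : Finset (Place k K))) (mulK k f) := by
  rw [intAt_singleton_eq_OI P φ hφ]
  exact nearStable_OI (φ := fun _ : Unit => φ) f

theorem ftr_comm_intAt_singleton {F : Type w} [Field F] [Algebra k F] [FiniteDimensional k F]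
    (P : Place k K) (φ : K →ₐ[k] LaurentSeries F) (hφ : LocRes.IsExpansionAt P.1 φ)
    {π : Module.End k K} (hπ : IsProjOnto (intAt ({P} : Finset (Place k K))) π) (u v : K) :
    ftr (comm π (mulK k u) (mulK k v)) = LocRes.locRes φ u v := by
  rw [intAt_singleton_eq_OI P φ hφ] at hπ
  have happ₀ : ∀ x : Unit → K, ∃ y : K, ∀ i, (fun _ : Unit => P.1) i (y - x i) ≤ 1 :=
    fun x => ⟨x (), fun _ => by simp⟩
  have h := ftr_comm_OI (F := fun _ : Unit => F) (φ := fun _ : Unit => φ)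
    (w := fun _ => P.1) (fun _ => hφ) happ₀ hπ u v
  rw [Fintype.sum_unique] at h
  exact h

/-- **The residue–trace formula** with an expansion only at one place `Q` above `P`, for a
function small at the other places above `P`. -/
theorem locRes_trace_eq_of_small [FiniteDimensional K K'] [Algebra.IsSeparable K K']
    (hK : FunFld.IsFunctionField k K) (P : FunFld.Place k K)
    (F : Type w) [Field F] [Algebra k F] [FiniteDimensional k F]
    (φ : K →ₐ[k] LaurentSeries F) (hφ : LocRes.IsExpansionAt P.1 φ)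
    (Qs : Finset (FunFld.Place k K')) (hQs : ∀ Q, Q ∈ Qs ↔ FunFld.IsOver Q P)
    (Q : Place k K') (hQ : Q ∈ Qs)
    (F' : Type w) [Field F'] [Algebra k F'] [FiniteDimensional k F']
    (ψ : K' →ₐ[k] LaurentSeries F') (hψ : LocRes.IsExpansionAt Q.1 ψ)
    (h : K') (x : K)
    (h1 : ∀ Q' ∈ Qs, Q' ≠ Q → Q'.1 h ≤ 1)
    (h2 : ∀ Q' ∈ Qs, Q' ≠ Q → Q'.1 (h * algebraMap K K' x) ≤ 1)
    (h3 : ∀ Q' ∈ Qs, Q' ≠ Q → Q'.1 (h * algebraMap K K' x * algebraMap K K' x) ≤ 1) :
    LocRes.locRes φ (Algebra.trace K K' h) x = LocRes.locRes ψ h (algebraMap K K' x) := by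
  classical
  have hO : ∀ f : K, NearStable (intAt ({P} : Finset (Place k K))) (mulK k f) :=
    nearStable_intAt_singleton P φ hφ
  have hA : ∀ z : K', NearStable (intAt ({Q} : Finset (Place k K'))) (mulK k z) :=
    nearStable_intAt_singleton Q ψ hψ
  obtain ⟨b, t, ht, hb1, hb2⟩ := exists_lattice hK P Qs hQs
  obtain ⟨U, hU, hUle⟩ := latt_le_sup b hO (intAt Qs) t ht hb2
  have hO' : ∀ z : K', NearStable (intAt Qs) (mulK k z) := fun z =>
    (nearStable_latt b hO z).of_ge hb1 U hUle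
  -- a uniformizer below
  obtain ⟨t₀, ht₀0, ht₀⟩ := pl_exists_val_eq_exp P (-1)
  have ht₀Q : ∀ Q' ∈ Qs, Q'.1 (algebraMap K K' t₀) ≤ exp (-1) := by
    intro Q' hQ'
    obtain ⟨e, he⟩ := (hQs Q').1 hQ'
    rw [he, ht₀]
    have he0 := isOverWith_pos he
    calc exp (-1 : ℤ) ^ e ≤ exp (-1 : ℤ) ^ 1 :=
          pow_le_pow_of_le_one zero_le' (by rw [← exp_zero, exp_le_exp]; omega) he0
      _ = exp (-1) := pow_one _
  have hB : ∀ z : K', NearStable (intAtNe Qs Q) (mulK k z) :=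
    nearStable_intAtNe Qs Q (algebraMap K K' t₀) ht₀Q ((map_ne_zero _).2 ht₀0)
      (fun z => by
        obtain ⟨m, hm⟩ := exists_pow_mul_le_one Qs t₀ ht₀Q z
        exact ⟨m, hm m le_rfl⟩) hO'
  obtain ⟨π₀, hπ₀⟩ := exists_isProjOnto (intAt ({P} : Finset (Place k K)))
  obtain ⟨π', hπ'⟩ := exists_isProjOnto (intAt Qs)
  obtain ⟨πA, hπA⟩ := exists_isProjOnto (intAt ({Q} : Finset (Place k K')))
  obtain ⟨πB, hπB⟩ := exists_isProjOnto (intAtNe Qs Q)
  have hT := ftr_comm_trace b hO hπ₀ (intAt Qs) hπ' hO' hb1 t ht hb2 h x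
  rw [ftr_comm_intAt_singleton P φ hφ hπ₀] at hT
  have hπ'2 : IsProjOnto (intAt ({Q} : Finset (Place k K')) ⊓ intAtNe Qs Q) π' := by
    rw [← intAt_eq_inf hQ]; exact hπ'
  have hadd := ftr_comm_inf (sup_intAtNe_eq_top hQ) (hA h) (hA (algebraMap K K' x)) (hB h)
    (hB (algebraMap K K' x)) (commute_mulK _ _) hπA hπB hπ'2
  have hzero : ftr (comm πB (mulK k h) (mulK k (algebraMap K K' x))) = 0 := by
    refine ftr_comm_eq_zero_of_stable hπB (commute_mulK _ _) ?_ ?_ ?_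
    · intro a ha Q' hQ' hne
      rw [mulK_apply, map_mul]
      exact mul_le_one' (h1 Q' hQ' hne) (ha Q' hQ' hne)
    · intro a ha Q' hQ' hne
      rw [mulK_apply, mulK_apply, ← mul_assoc, map_mul]
      exact mul_le_one' (h2 Q' hQ' hne) (ha Q' hQ' hne)
    · intro a ha Q' hQ' hne
      rw [mulK_apply, mulK_apply, mulK_apply, ← mul_assoc, ← mul_assoc, map_mul]
      exact mul_le_one' (h3 Q' hQ' hne) (ha Q' hQ' hne)
  rw [hadd, hzero, add_zero, ftr_comm_intAt_singleton Q ψ hψ hπA] at hT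
  exact hT.symm

end Groth.Agent.H27.Tate
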