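import Mathlib
import Groth.Agent.H27.TrRes.Diff2
import Groth.Agent.H27.Tate.SepPlace

/-!
# Integrality at the places above, local non-vanishing of residues
-/

set_option autoImplicit false

namespace Groth.Agent.H27.Tate

open LinearMap HahnSeries WithZero FunFld Groth.Agent.H55

universe u v w

section Local

variable {k : Type*} {K : Type*} {F : Type*} [Field k] [Field K] [Field F] [Algebra k K]
  [Algebra k F]

theorem vDiff_eq_mul {w : Valuation K (WithZero (Multiplicative ℤ))} {φ : K →ₐ[k] LaurentSeries F}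
    (hφ : LocRes.IsExpansionAt w φ) (u x : K) :
    LocRes.vDiff φ u x = w u * LocRes.vDiff φ 1 x := by
  unfold LocRes.vDiff
  rw [map_mul, map_mul, hφ.1, hφ.1, map_one, one_mul]

theorem locRes_eq_zero_of_vDiff_le_one (φ : K →ₐ[k] LaurentSeries F) (u x : K)
    (h : LocRes.vDiff φ u x ≤ 1) : LocRes.locRes φ u x = 0 := by
  unfold LocRes.vDiff at h
  unfold LocRes.locRes LocRes.resExp
  rw [LocRes.res_apply]
  have h0 : (φ u * LocRes.D F (φ x)).coeff (-1) = 0 :=
    (LaurentSeries.valuation_le_iff_coeff_lt_eq_zero F).1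
      (show Valued.v (φ u * LocRes.D F (φ x)) ≤ exp (-(0 : ℤ)) by rwa [neg_zero, exp_zero])
      (-1) (by norm_num)
  rw [h0, map_zero]

theorem locRes_add (φ : K →ₐ[k] LaurentSeries F) (u u' x : K) :
    LocRes.locRes φ (u + u') x = LocRes.locRes φ u x + LocRes.locRes φ u' x := by
  unfold LocRes.locRes LocRes.resExp
  rw [map_add, add_mul, map_add, map_add]

theorem coeff_mul_of_mem {x y : LaurentSeries F} {q : ℤ} (hx : x ∈ Alev F 0) (hy : y ∈ Alev F q) :
    (x * y).coeff q = x.coeff 0 * y.coeff q := by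
  have h1 : x - HahnSeries.C (x.coeff 0) ∈ Alev F 1 := by
    intro i hi
    rw [coeff_sub, HahnSeries.C_apply, coeff_single]
    rcases lt_or_eq_of_le (show i ≤ 0 by omega) with h | h
    · rw [hx i h, if_neg (by omega), sub_zero]
    · rw [if_pos h, h, sub_self]
  have h2 := mul_mem_Alev h1 hy
  have h3 : ((x - HahnSeries.C (x.coeff 0)) * y).coeff q = 0 := h2 q (by omega)
  have h4 : x * y = (x - HahnSeries.C (x.coeff 0)) * y + HahnSeries.C (x.coeff 0) * y := by ring
  rw [h4, coeff_add, h3, zero_add, HahnSeries.C_mul_eq_smul, coeff_smul, smul_eq_mul]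

/-- A differential with a simple pole can be multiplied by an integral function to get a nonzero
traced residue. -/
theorem exists_locRes_ne_zero [FiniteDimensional k F] [Algebra.IsSeparable k F]
    {w : Valuation K (WithZero (Multiplicative ℤ))} {φ : K →ₐ[k] LaurentSeries F}
    (hφ : LocRes.IsExpansionAt w φ) (h x : K) (hv : LocRes.vDiff φ h x = exp (1 : ℤ)) :
    ∃ c : K, w c ≤ 1 ∧ LocRes.locRes φ (c * h) x ≠ 0 := by
  set ξ : LaurentSeries F := φ h * LocRes.D F (φ x) with hξ
  have hξv : Valued.v ξ = exp (1 : ℤ) := hv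
  have hξA : ξ ∈ Alev F (-1) := by
    rw [mem_Alev_iff_val, hξv, neg_neg]
  have hlam : ξ.coeff (-1) ≠ 0 := by
    intro h0
    have : Valued.v ξ ≤ exp (-(0 : ℤ)) := by
      rw [LaurentSeries.valuation_le_iff_coeff_lt_eq_zero]
      intro i hi
      rcases lt_or_eq_of_le (show i ≤ -1 by omega) with h' | h'
      · exact hξA i h'
      · rw [h']; exact h0
    rw [hξv, exp_le_exp] at this
    omega
  obtain ⟨ν, hν⟩ := Algebra.trace_surjective k F (1 : k)
  obtain ⟨c, hc1, hc2⟩ := hφ.2.1 (ν / ξ.coeff (-1))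
  refine ⟨c, hc1, ?_⟩
  have hcA : φ c ∈ Alev F 0 := by
    rw [mem_Alev_iff_val, hφ.1, neg_zero, exp_zero]; exact hc1
  unfold LocRes.locRes LocRes.resExp
  rw [LocRes.res_apply, map_mul, mul_assoc, ← hξ, coeff_mul_of_mem hcA hξA, hc2,
    div_mul_cancel₀ _ hlam, hν]
  exact one_ne_zero

end Local

section Integral

variable {k : Type u} {K K' : Type v} [Field k] [Field K] [Field K'] [Algebra k K] [Algebra K K']
  [Algebra k K'] [IsScalarTower k K K']

/-- Integral elements over `O_P` are integral at every place above `P`. -/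
theorem val_le_one_of_isIntegral (P : Place k K) [Algebra P.O K'] [IsScalarTower P.O K K']
    {z : K'} (hz : IsIntegral P.O z) (Q' : Place k K') (hQ' : IsOver Q' P) : Q'.1 z ≤ 1 := by
  obtain ⟨e, he⟩ := hQ'
  have hmem : ∀ c : P.O, algebraMap K K' (c : K) ∈ Q'.O := fun c => by
    rw [Valuation.mem_valuationSubring_iff, he]
    exact pow_le_one₀ zero_le' ((Valuation.mem_valuationSubring_iff P.1 _).1 c.2)
  let g : P.O →+* Q'.O := ((algebraMap K K').comp P.O.subtype).codRestrict Q'.O hmem
  have hcomp : algebraMap P.O K' = (Q'.O.subtype).comp g := by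
    ext c
    rw [IsScalarTower.algebraMap_apply P.O K K']
    rfl
  have h1 : (algebraMap P.O K').IsIntegralElem z := hz
  rw [hcomp] at h1
  have h2 : IsIntegral Q'.O z := RingHom.IsIntegralElem.of_comp h1
  obtain ⟨y, hy⟩ := IsIntegrallyClosed.isIntegral_iff.1 h2
  rw [← hy]
  exact (Valuation.mem_valuationSubring_iff Q'.1 _).1 y.2

/-- Elements integral at every place above `P` are integral over `O_P`. -/
theorem isIntegral_of_mem_intAt [FiniteDimensional K K'] [Algebra.IsSeparable K K']
    (hK : FunFld.IsFunctionField k K) (P : Place k K) [Algebra P.O K'] [IsScalarTower P.O K K']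
    (Qs : Finset (FunFld.Place k K')) (hQs : ∀ Q, Q ∈ Qs ↔ FunFld.IsOver Q P)
    {z : K'} (hz : z ∈ intAt Qs) : IsIntegral P.O z := by
  classical
  have hK1 : G.IsFF1 k K := G.isFF1_of_isFunctionField hK
  haveI : IsNoetherianRing P.O := G.vs_isNoetherianRing P.O (fun c =>
    (Valuation.mem_valuationSubring_iff P.1 _).2 (P.2.1 c)) hK1
  obtain ⟨b, t, ht, hb1, hb2⟩ := exists_lattice hK P Qs hQs
  have halg : ∀ c : P.O, algebraMap P.O K' c = algebraMap K K' (c : K) := fun c => by
    rw [IsScalarTower.algebraMap_apply P.O K K']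
    rfl
  let S : Subalgebra P.O K' :=
    { carrier := {x | x ∈ intAt Qs}
      mul_mem' := fun {x y} hx hy Q hQ => by
        rw [map_mul]; exact mul_le_one' (hx Q hQ) (hy Q hQ)
      add_mem' := fun {x y} hx hy => (intAt Qs).add_mem hx hy
      algebraMap_mem' := fun c Q hQ => by
        obtain ⟨e, he⟩ := (hQs Q).1 hQ
        rw [halg, he]
        exact pow_le_one₀ zero_le' ((Valuation.mem_valuationSubring_iff P.1 _).1 c.2) }
  have hN : (Submodule.span P.O (Set.range b)).FG := Submodule.fg_span (Set.finite_range b)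
  have hle : Subalgebra.toSubmodule S ≤ Submodule.span P.O (Set.range b) := by
    intro x hx
    have hx' : x ∈ intAt Qs := hx
    have hc := mem_latt.1 (hb1 hx')
    rw [← b.sum_repr x]
    refine Submodule.sum_mem _ fun i _ => ?_
    have h1 : b.repr x i • b i =
        (⟨b.repr x i, (Valuation.mem_valuationSubring_iff P.1 _).2
          (mem_intAt_singleton.1 (hc i))⟩ : P.O) • b i := by
      rw [Algebra.smul_def, Algebra.smul_def, halg]
    rw [h1]
    exact Submodule.smul_mem _ _ (Submodule.subset_span ⟨i, rfl⟩)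
  exact IsIntegral.of_mem_of_fg S (Submodule.FG.of_le hN hle) z hz

end Integral

end Groth.Agent.H27.Tate
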