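import Mathlib
import Groth.Agent.H27.TrRes.Diff3
import Groth.Agent.H27.Tate.ExpFD
import Groth.Agent.H27.RH.KaehlerExt
import Groth.Agent.H55.FFGeom

/-!
# The dual of the integral closure and the different exponent (at a place of residue degree one…
in fact any place with an expansion)
-/

set_option autoImplicit false

namespace Groth.Agent.H27.Tate

open LinearMap HahnSeries WithZero FunFld Groth.Agent.H55

universe u v w

variable {k : Type u} {K K' : Type v} [Field k] [Field K] [Field K'] [Algebra k K] [Algebra K K']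
  [Algebra k K'] [IsScalarTower k K K']

theorem exp_neg_log_eq_inv {x : WithZero (Multiplicative ℤ)} (hx : x ≠ 0) :
    exp (-log x) = x⁻¹ := by
  rw [exp_neg, exp_log hx]

/-- Weak approximation: prescribed near `Q`, small at the other places of `Qs`. -/
theorem exists_approx (Qs : Finset (Place k K')) (Q : Place k K') (hQ : Q ∈ Qs) (target : K')
    (m : ℤ) (M : Place k K' → WithZero (Multiplicative ℤ)) (hM : ∀ Q', M Q' ≠ 0) :
    ∃ z : K', Q.1 (z - target) ≤ exp m ∧ ∀ Q' ∈ Qs, Q' ≠ Q → Q'.1 z ≤ (M Q')⁻¹ := by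
  classical
  obtain ⟨z, hz⟩ := weak_approx_le Qs (fun Q' => if Q' = Q then target else 0)
    (fun Q' => if Q' = Q then m else -log (M Q'))
  refine ⟨z, ?_, fun Q' hQ' hne => ?_⟩
  · have := hz Q hQ
    rwa [if_pos rfl, if_pos rfl] at this
  · have := hz Q' hQ'
    rwa [if_neg hne, if_neg hne, sub_zero, exp_neg_log_eq_inv (hM Q')] at this

/-- Data common to the two halves. -/
theorem dual_val_aux [FiniteDimensional K K'] [Algebra.IsSeparable K K']
    (hK : FunFld.IsFunctionField k K) (hg : FunFld.IsGeometric k K)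
    (F F' : Type w) [Field F] [Algebra k F] [Field F'] [Algebra k F']
    (P : FunFld.Place k K) (Q : FunFld.Place k K') (e : ℕ) (he : FunFld.IsOverWith Q P e)
    (φ : K →ₐ[k] LaurentSeries F) (hφ : LocRes.IsExpansionAt P.1 φ)
    (ψ : K' →ₐ[k] LaurentSeries F') (hψ : LocRes.IsExpansionAt Q.1 ψ)
    (x : K) (hx : LocRes.vDiff φ 1 x ≠ 0) (hx' : LocRes.vDiff ψ 1 (algebraMap K K' x) ≠ 0) :
    FiniteDimensional k F ∧ FiniteDimensional k F' ∧ Algebra.IsSeparable k F ∧
      Algebra.IsSeparable k F' := by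
  have hK1 : G.IsFF1 k K := G.isFF1_of_isFunctionField hK
  have hK1' : G.IsFF1 k K' := isFF1_of_finite hK1
  haveI hF : FiniteDimensional k F := Groth.Agent.H27.ExpFD.finiteDimensional hK P φ hφ
  haveI hF' : FiniteDimensional k F' := by
    haveI := G.residue_finiteDimensional hK1' Q
    exact Module.Finite.of_surjective (Groth.Agent.H27.ExpFD.resLin Q ψ hψ)
      (Groth.Agent.H27.ExpFD.resHomF_surjective Q ψ hψ)
  have hfr : Module.finrank K (Ω[K⁄k]) = 1 := finrank_kaehler hK hg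
  have hDx : LocRes.D F (φ x) ≠ 0 := by
    intro h0
    apply hx
    unfold LocRes.vDiff
    rw [h0, mul_zero, map_zero]
  have hDx' : LocRes.D F' (ψ (algebraMap K K' x)) ≠ 0 := by
    intro h0
    apply hx'
    unfold LocRes.vDiff
    rw [h0, mul_zero, map_zero]
  have hdx := Groth.Agent.H27.DiffExp.D_ne_zero_of_expansion φ x hDx
  have hdx' := Groth.Agent.H27.DiffExp.D_ne_zero_of_expansion ψ (algebraMap K K' x) hDx'
  have hfr' : Module.finrank K' (Ω[K'⁄k]) = 1 :=
    Groth.Agent.H27.RH.finrank_kaehler_ext (k' := k) hfr hdx hdx'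
  exact ⟨hF, hF', Groth.Agent.H27.SepPlace.isSeparable_of_isExpansionAt hfr φ hφ,
    Groth.Agent.H27.SepPlace.isSeparable_of_isExpansionAt hfr' ψ hψ⟩

/-- **The dual of the integral closure**: `min_{y ∈ R^*} v_Q(y) = -d(Q|P)`. -/
theorem dual_val [FiniteDimensional K K'] [Algebra.IsSeparable K K']
    (hK : FunFld.IsFunctionField k K) (hg : FunFld.IsGeometric k K)
    (F F' : Type w) [Field F] [Algebra k F] [Field F'] [Algebra k F']
    (P : FunFld.Place k K) (Q : FunFld.Place k K') (e : ℕ) (he : FunFld.IsOverWith Q P e)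
    (φ : K →ₐ[k] LaurentSeries F) (hφ : LocRes.IsExpansionAt P.1 φ)
    (ψ : K' →ₐ[k] LaurentSeries F') (hψ : LocRes.IsExpansionAt Q.1 ψ)
    (x : K) (hx : LocRes.vDiff φ 1 x ≠ 0) (hx' : LocRes.vDiff ψ 1 (algebraMap K K' x) ≠ 0)
    [Algebra P.O K'] [IsScalarTower P.O K K'] :
    (∀ y : K', (∀ z : K', IsIntegral P.O z → P.1 (Algebra.trace K K' (y * z)) ≤ 1) →
      Q.1 y ≤ WithZero.exp (LocRes.diffExp φ ψ e x)) ∧
    ∃ y : K', (∀ z : K', IsIntegral P.O z → P.1 (Algebra.trace K K' (y * z)) ≤ 1) ∧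
      Q.1 y = WithZero.exp (LocRes.diffExp φ ψ e x) := by
  classical
  obtain ⟨hF, hF', hsF, hsF'⟩ := dual_val_aux hK hg F F' P Q e he φ hφ ψ hψ x hx hx'
  haveI := hF
  haveI := hF'
  haveI := hsF
  haveI := hsF'
  obtain ⟨hfin, -⟩ := sum_ramIdx_mul_deg (K' := K') hK P
  set Qs := hfin.toFinset with hQsd
  have hQs : ∀ Q', Q' ∈ Qs ↔ IsOver Q' P := fun Q' => by
    rw [hQsd, Set.Finite.mem_toFinset]; rfl
  have hQ : Q ∈ Qs := (hQs Q).2 ⟨e, he⟩
  set x' := algebraMap K K' x with hx'd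
  set a := LocRes.ordDiff φ 1 x with ha
  set a' := LocRes.ordDiff ψ 1 x' with ha'
  have hva : LocRes.vDiff φ 1 x = exp (-a) := by
    rw [ha]; unfold LocRes.ordDiff; rw [neg_neg, exp_log hx]
  have hva' : LocRes.vDiff ψ 1 x' = exp (-a') := by
    rw [ha']; unfold LocRes.ordDiff; rw [neg_neg, exp_log hx']
  have hd : LocRes.diffExp φ ψ e x = a' - e * a := rfl
  obtain ⟨g₁, hg₁0, hg₁⟩ := pl_exists_val_eq_exp P a
  have hQg₁ : Q.1 (algebraMap K K' g₁) = exp ((e : ℤ) * a) := by
    rw [he, hg₁, ← exp_nsmul, nsmul_eq_mul]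
  refine ⟨fun y hy => ?_, ?_⟩
  · by_contra hcon
    rw [not_le] at hcon
    have hy0 : Q.1 y ≠ 0 := fun h0 => by
      rw [h0] at hcon; exact not_lt_zero' hcon
    obtain ⟨n, hn⟩ : ∃ n : ℤ, Q.1 y = exp n := ⟨log (Q.1 y), (exp_log hy0).symm⟩
    rw [hn, hd, exp_lt_exp] at hcon
    obtain ⟨j, hj⟩ : ∃ j : ℤ, j = n - (a' - e * a) := ⟨_, rfl⟩
    obtain ⟨z₀, hz₀0, hz₀⟩ := pl_exists_val_eq_exp Q (-(j - 1))
    set h₀ := y * z₀ * algebraMap K K' g₁ with hh₀
    have hv : LocRes.vDiff ψ h₀ x' = exp (1 : ℤ) := by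
      rw [vDiff_eq_mul hψ, hva', map_mul, map_mul, hn, hz₀, hQg₁, ← exp_add, ← exp_add,
        ← exp_add]
      congr 1
      rw [hj]; ring
    obtain ⟨c, hc1, hc2⟩ := exists_locRes_ne_zero hψ h₀ x' hv
    let M : Place k K' → WithZero (Multiplicative ℤ) := fun Q' =>
      max 1 (max (Q'.1 (y * algebraMap K K' g₁)) (max (Q'.1 (y * algebraMap K K' g₁ * x'))
        (Q'.1 (y * algebraMap K K' g₁ * x' * x'))))
    have hM1 : ∀ Q', 1 ≤ M Q' := fun Q' => le_max_left _ _
    have hM0 : ∀ Q', M Q' ≠ 0 := fun Q' => (lt_of_lt_of_le zero_lt_one (hM1 Q')).ne'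
    obtain ⟨z', hz'Q, hz'o⟩ := exists_approx Qs Q hQ (c * z₀) (-j) M hM0
    have hsm : ∀ Q' ∈ Qs, Q' ≠ Q → ∀ u : K', Q'.1 u ≤ M Q' → Q'.1 (u * z') ≤ 1 := by
      intro Q' hQ' hne u hu
      rw [map_mul]
      calc Q'.1 u * Q'.1 z' ≤ M Q' * (M Q')⁻¹ := mul_le_mul' hu (hz'o Q' hQ' hne)
        _ = 1 := mul_inv_cancel₀ (hM0 Q')
    have hz'int : z' ∈ intAt Qs := by
      intro Q' hQ'
      by_cases hne : Q' = Q
      · rw [hne]
        have : z' = (z' - c * z₀) + c * z₀ := by ring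
        rw [this]
        refine (Q.1.map_add _ _).trans (max_le (hz'Q.trans ?_) ?_)
        · rw [← exp_zero, exp_le_exp]; omega
        · rw [map_mul, hz₀]
          exact (mul_le_mul' hc1 le_rfl).trans (by rw [one_mul, ← exp_zero, exp_le_exp]; omega)
      · have := hsm Q' hQ' hne 1 (by rw [map_one]; exact hM1 Q')
        rwa [one_mul] at this
    have hyz := hy z' (isIntegral_of_mem_intAt hK P Qs hQs hz'int)
    set h := y * z' * algebraMap K K' g₁ with hh
    have main := locRes_trace_eq_of_small hK P F φ hφ Qs hQs Q hQ F' ψ hψ h x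
      (fun Q' hQ' hne => by
        have := hsm Q' hQ' hne (y * algebraMap K K' g₁)
          (le_max_of_le_right (le_max_left _ _))
        rwa [show y * algebraMap K K' g₁ * z' = h by rw [hh]; ring] at this)
      (fun Q' hQ' hne => by
        have := hsm Q' hQ' hne (y * algebraMap K K' g₁ * x')
          (le_max_of_le_right (le_max_of_le_right (le_max_left _ _)))
        rwa [show y * algebraMap K K' g₁ * x' * z' = h * x' by rw [hh]; ring] at this)
      (fun Q' hQ' hne => by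
        have := hsm Q' hQ' hne (y * algebraMap K K' g₁ * x' * x')
          (le_max_of_le_right (le_max_of_le_right (le_max_right _ _)))
        rwa [show y * algebraMap K K' g₁ * x' * x' * z' = h * x' * x' by rw [hh]; ring] at this)
    have hL : LocRes.locRes φ (Algebra.trace K K' h) x = 0 := by
      have e1 : h = g₁ • (y * z') := by rw [Algebra.smul_def, hh]; ring
      rw [e1, map_smul, smul_eq_mul]
      refine locRes_eq_zero_of_vDiff_le_one φ _ x ?_
      rw [vDiff_eq_mul hφ, hva, map_mul, hg₁]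
      calc exp a * P.1 (Algebra.trace K K' (y * z')) * exp (-a) ≤ exp a * 1 * exp (-a) :=
            mul_le_mul' (mul_le_mul' le_rfl hyz) le_rfl
        _ = 1 := by rw [mul_one, ← exp_add, add_neg_cancel, exp_zero]
    have hR : LocRes.locRes ψ h x' ≠ 0 := by
      have e2 : h = c * h₀ + y * (z' - c * z₀) * algebraMap K K' g₁ := by
        rw [hh, hh₀]; ring
      have hv2 : LocRes.vDiff ψ (y * (z' - c * z₀) * algebraMap K K' g₁) x' ≤ 1 := by
        rw [vDiff_eq_mul hψ, hva', map_mul, map_mul, hn, hQg₁]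
        calc exp n * Q.1 (z' - c * z₀) * exp ((e : ℤ) * a) * exp (-a')
            ≤ exp n * exp (-j) * exp ((e : ℤ) * a) * exp (-a') :=
              mul_le_mul' (mul_le_mul' (mul_le_mul' le_rfl hz'Q) le_rfl) le_rfl
          _ = 1 := by
              rw [← exp_add, ← exp_add, ← exp_add, ← exp_zero]
              congr 1
              rw [hj]; ring
      rw [e2, locRes_add, locRes_eq_zero_of_vDiff_le_one ψ _ x' hv2, add_zero]
      exact hc2
    rw [hL] at main
    exact hR main.symm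
  · obtain ⟨y₀, hy₀0, hy₀⟩ := pl_exists_val_eq_exp Q (a' - e * a)
    let M : Place k K' → WithZero (Multiplicative ℤ) := fun Q' =>
      max 1 (max (Q'.1 (algebraMap K K' g₁)) (max (Q'.1 (algebraMap K K' g₁ * x'))
        (Q'.1 (algebraMap K K' g₁ * x' * x'))))
    have hM1 : ∀ Q', 1 ≤ M Q' := fun Q' => le_max_left _ _
    have hM0 : ∀ Q', M Q' ≠ 0 := fun Q' => (lt_of_lt_of_le zero_lt_one (hM1 Q')).ne'
    obtain ⟨y, hyQ, hyo⟩ := exists_approx Qs Q hQ y₀ (a' - e * a - 1) M hM0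
    have hyv : Q.1 y = exp (a' - e * a) := by
      have : y = (y - y₀) + y₀ := by ring
      rw [this, Valuation.map_add_eq_of_lt_right, hy₀]
      rw [hy₀]
      exact lt_of_le_of_lt hyQ (by rw [exp_lt_exp]; omega)
    refine ⟨y, fun z hz => ?_, by rw [hyv, hd]⟩
    by_contra hcon
    rw [not_le] at hcon
    set f := Algebra.trace K K' (y * z) with hf
    have hf0 : P.1 f ≠ 0 := (lt_trans zero_lt_one hcon).ne'
    obtain ⟨n, hn⟩ : ∃ n : ℤ, P.1 f = exp n := ⟨log (P.1 f), (exp_log hf0).symm⟩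
    rw [hn, ← exp_zero, exp_lt_exp] at hcon
    obtain ⟨g₂, hg₂0, hg₂⟩ := pl_exists_val_eq_exp P (1 + a - n)
    have hv : LocRes.vDiff φ (g₂ * f) x = exp (1 : ℤ) := by
      rw [vDiff_eq_mul hφ, hva, map_mul, hg₂, hn, ← exp_add, ← exp_add]
      congr 1
      ring
    obtain ⟨c, hc1, hc2⟩ := exists_locRes_ne_zero hφ (g₂ * f) x hv
    set g₃ := c * g₂ with hg₃d
    have hg₃ : P.1 g₃ ≤ P.1 g₁ := by
      rw [hg₃d, map_mul, hg₂, hg₁]
      exact (mul_le_mul' hc1 le_rfl).trans (by rw [one_mul, exp_le_exp]; omega)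
    have hzint : ∀ Q' ∈ Qs, Q'.1 z ≤ 1 := fun Q' hQ' =>
      val_le_one_of_isIntegral P hz Q' ((hQs Q').1 hQ')
    have hg₃Q : ∀ Q' ∈ Qs, Q'.1 (algebraMap K K' g₃) ≤ Q'.1 (algebraMap K K' g₁) := by
      intro Q' hQ'
      obtain ⟨e', he'⟩ := (hQs Q').1 hQ'
      rw [he', he']
      exact pow_le_pow_left₀ zero_le' hg₃ e'
    set h := y * z * algebraMap K K' g₃ with hh
    have hsm : ∀ Q' ∈ Qs, Q' ≠ Q → ∀ u : K', Q'.1 (algebraMap K K' g₁ * u) ≤ M Q' →
        Q'.1 (h * u) ≤ 1 := by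
      intro Q' hQ' hne u hu
      have e1 : h * u = y * z * (algebraMap K K' g₃ * u) := by rw [hh]; ring
      rw [e1, map_mul, map_mul, map_mul]
      calc Q'.1 y * Q'.1 z * (Q'.1 (algebraMap K K' g₃) * Q'.1 u)
          ≤ (M Q')⁻¹ * 1 * (Q'.1 (algebraMap K K' g₁) * Q'.1 u) :=
            mul_le_mul' (mul_le_mul' (hyo Q' hQ' hne) (hzint Q' hQ'))
              (mul_le_mul' (hg₃Q Q' hQ') le_rfl)
        _ ≤ (M Q')⁻¹ * 1 * M Q' := by
            rw [← map_mul]; exact mul_le_mul' le_rfl hu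
        _ = 1 := by rw [mul_one, inv_mul_cancel₀ (hM0 Q')]
    have main := locRes_trace_eq_of_small hK P F φ hφ Qs hQs Q hQ F' ψ hψ h x
      (fun Q' hQ' hne => by
        have := hsm Q' hQ' hne 1 (by
          rw [mul_one]; exact le_max_of_le_right (le_max_left _ _))
        rwa [mul_one] at this)
      (fun Q' hQ' hne => hsm Q' hQ' hne x'
        (le_max_of_le_right (le_max_of_le_right (le_max_left _ _))))
      (fun Q' hQ' hne => by
        have := hsm Q' hQ' hne (x' * x') (by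
          rw [← mul_assoc]
          exact le_max_of_le_right (le_max_of_le_right (le_max_right _ _)))
        rwa [← mul_assoc] at this)
    have hL : LocRes.locRes φ (Algebra.trace K K' h) x ≠ 0 := by
      have e1 : h = g₃ • (y * z) := by rw [Algebra.smul_def, hh]; ring
      rw [e1, map_smul, smul_eq_mul, ← hf,
        show g₃ * f = c * (g₂ * f) by rw [hg₃d]; ring]
      exact hc2
    have hR : LocRes.locRes ψ h x' = 0 := by
      refine locRes_eq_zero_of_vDiff_le_one ψ _ x' ?_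
      rw [vDiff_eq_mul hψ, hva', hh, map_mul, map_mul, hyv]
      calc exp (a' - e * a) * Q.1 z * Q.1 (algebraMap K K' g₃) * exp (-a')
          ≤ exp (a' - e * a) * 1 * exp ((e : ℤ) * a) * exp (-a') :=
            mul_le_mul' (mul_le_mul' (mul_le_mul' le_rfl (hzint Q hQ))
              ((hg₃Q Q hQ).trans_eq hQg₁)) le_rfl
        _ = 1 := by
            rw [mul_one, ← exp_add, ← exp_add, ← exp_zero]
            congr 1
            ring
    rw [hR] at main
    exact hL main

end Groth.Agent.H27.Tate
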