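import Mathlib
import Groth.Agent.H27.TrRes.Diff4

/-!
# The different exponent and the derivative of a minimal polynomial
-/

set_option autoImplicit false

namespace Groth.Agent.H27.Tate

open LinearMap HahnSeries WithZero FunFld Groth.Agent.H55 Polynomial

universe u v w

variable {k : Type u} {K K' : Type v} [Field k] [Field K] [Field K'] [Algebra k K] [Algebra K K']
  [Algebra k K'] [IsScalarTower k K K']

/-- Euler's lemma: the dual of the integral closure, times `g'(y)`, lies in `O_P[y]`. -/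
theorem mul_derivative_mem_adjoin [FiniteDimensional K K'] [Algebra.IsSeparable K K']
    (P : FunFld.Place k K) [Algebra P.O K'] [IsScalarTower P.O K K']
    (y : K') (hy : IntermediateField.adjoin K ({y} : Set K') = ⊤) (hyi : IsIntegral P.O y)
    (w : K') (hw : ∀ z : K', IsIntegral P.O z → P.1 (Algebra.trace K K' (w * z)) ≤ 1) :
    w * aeval y (derivative (minpoly K y)) ∈ Algebra.adjoin P.O ({y} : Set K') := by
  have hδ0 : aeval y (derivative (minpoly K y)) ≠ 0 :=
    (Algebra.IsSeparable.isSeparable K y).aeval_derivative_ne_zero (minpoly.aeval K y)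
  have hadj : Algebra.adjoin K ({y} : Set K') = ⊤ := by
    have := IntermediateField.adjoin_simple_toSubalgebra_of_isAlgebraic
      (Algebra.IsAlgebraic.isAlgebraic (R := K) y)
    rw [← this, hy, IntermediateField.top_toSubalgebra]
  have hEuler := traceForm_dualSubmodule_adjoin P.O K hadj hyi
  have h1 : w ∈ (Algebra.traceForm K K').dualSubmodule
      (Subalgebra.toSubmodule (Algebra.adjoin P.O ({y} : Set K'))) := by
    intro c hc
    rw [Algebra.traceForm_apply, Submodule.mem_one]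
    have hci : IsIntegral P.O c := adjoin_le_integralClosure hyi hc
    exact ⟨⟨_, (Valuation.mem_valuationSubring_iff P.1 _).2 (hw c hci)⟩, rfl⟩
  rw [hEuler] at h1
  obtain ⟨c, hc, hcw⟩ := (Submodule.mem_smul_pointwise_iff_exists _ _ _).1 h1
  have : w * aeval y (derivative (minpoly K y)) = c := by
    rw [← hcw, smul_eq_mul]
    field_simp
  rw [this]
  exact hc

/-- `v_Q(g'(y)) ≥ d(Q|P)`, and in case of equality `O_Q` is a localisation of `O_P[y]`. -/
theorem different_le_derivative [FiniteDimensional K K'] [Algebra.IsSeparable K K']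
    (hK : FunFld.IsFunctionField k K) (hg : FunFld.IsGeometric k K)
    (F F' : Type w) [Field F] [Algebra k F] [Field F'] [Algebra k F']
    (P : FunFld.Place k K) (Q : FunFld.Place k K') (e : ℕ) (he : FunFld.IsOverWith Q P e)
    (φ : K →ₐ[k] LaurentSeries F) (hφ : LocRes.IsExpansionAt P.1 φ)
    (ψ : K' →ₐ[k] LaurentSeries F') (hψ : LocRes.IsExpansionAt Q.1 ψ)
    (x : K) (hx : LocRes.vDiff φ 1 x ≠ 0) (hx' : LocRes.vDiff ψ 1 (algebraMap K K' x) ≠ 0)
    [Algebra P.O K'] [IsScalarTower P.O K K']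
    (y : K') (hy : IntermediateField.adjoin K ({y} : Set K') = ⊤) (hyi : IsIntegral P.O y) :
    LocRes.diffExp φ ψ e x ≤ Q.ord (aeval y (derivative (minpoly K y))) ∧
    (Q.ord (aeval y (derivative (minpoly K y))) = LocRes.diffExp φ ψ e x →
      ∀ z : K', Q.1 z ≤ 1 → ∃ a ∈ Algebra.adjoin P.O ({y} : Set K'),
        ∃ b ∈ Algebra.adjoin P.O ({y} : Set K'), Q.1 b = 1 ∧ z * b = a) := by
  classical
  obtain ⟨hfin, -⟩ := sum_ramIdx_mul_deg (K' := K') hK P
  set Qs := hfin.toFinset with hQsd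
  have hQs : ∀ Q', Q' ∈ Qs ↔ IsOver Q' P := fun Q' => by
    rw [hQsd, Set.Finite.mem_toFinset]; rfl
  have hQ : Q ∈ Qs := (hQs Q).2 ⟨e, he⟩
  set δ : K' := aeval y (derivative (minpoly K y)) with hδ
  have hδ0 : δ ≠ 0 :=
    (Algebra.IsSeparable.isSeparable K y).aeval_derivative_ne_zero (minpoly.aeval K y)
  have hδv : Q.1 δ = exp (-(Q.ord δ)) := by
    unfold Place.ord
    rw [neg_neg, exp_log ((Q.1.ne_zero_iff).2 hδ0)]
  obtain ⟨-, y₀, hy₀, hy₀v⟩ := dual_val hK hg F F' P Q e he φ hφ ψ hψ x hx hx'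
  have ha₀C := mul_derivative_mem_adjoin P y hy hyi y₀ hy₀
  have ha₀i : IsIntegral P.O (y₀ * δ) := adjoin_le_integralClosure hyi ha₀C
  have ha₀v : Q.1 (y₀ * δ) ≤ 1 := val_le_one_of_isIntegral P ha₀i Q ⟨e, he⟩
  have hle : LocRes.diffExp φ ψ e x ≤ Q.ord δ := by
    rw [map_mul, hy₀v, hδv, ← exp_add, ← exp_zero, exp_le_exp] at ha₀v
    omega
  refine ⟨hle, fun heq z hz => ?_⟩
  have ha₀1 : Q.1 (y₀ * δ) = 1 := by
    rw [map_mul, hy₀v, hδv, heq, ← exp_add, add_neg_cancel, exp_zero]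
  -- approximation
  let M : Place k K' → WithZero (Multiplicative ℤ) := fun Q' => max 1 (Q'.1 z)
  have hM1 : ∀ Q', 1 ≤ M Q' := fun Q' => le_max_left _ _
  have hM0 : ∀ Q', M Q' ≠ 0 := fun Q' => (lt_of_lt_of_le zero_lt_one (hM1 Q')).ne'
  obtain ⟨s, hsQ, hso⟩ := exists_approx Qs Q hQ 1 (-1) M hM0
  have hs1 : Q.1 s = 1 := by
    have : s = (s - 1) + 1 := by ring
    rw [this, Valuation.map_add_eq_of_lt_right, map_one]
    rw [map_one]
    exact lt_of_le_of_lt hsQ (by rw [← exp_zero, exp_lt_exp]; omega)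
  have hsle : ∀ Q' ∈ Qs, Q' ≠ Q → Q'.1 s ≤ 1 := fun Q' hQ' hne =>
    (hso Q' hQ' hne).trans (inv_le_one_of_one_le₀ (hM1 Q'))
  have hsint : s ∈ intAt Qs := by
    intro Q' hQ'
    by_cases hne : Q' = Q
    · rw [hne, hs1]
    · exact hsle Q' hQ' hne
  have hzsint : z * s ∈ intAt Qs := by
    intro Q' hQ'
    rw [map_mul]
    by_cases hne : Q' = Q
    · rw [hne, hs1, mul_one]; exact hz
    · calc Q'.1 z * Q'.1 s ≤ M Q' * (M Q')⁻¹ :=
            mul_le_mul' (le_max_right _ _) (hso Q' hQ' hne)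
        _ = 1 := mul_inv_cancel₀ (hM0 Q')
  have hsI := isIntegral_of_mem_intAt hK P Qs hQs hsint
  have hzsI := isIntegral_of_mem_intAt hK P Qs hQs hzsint
  have hmulC : ∀ r : K', IsIntegral P.O r → r * (y₀ * δ) ∈ Algebra.adjoin P.O ({y} : Set K') := by
    intro r hr
    have := mul_derivative_mem_adjoin P y hy hyi (r * y₀) (fun z' hz' => by
      have := hy₀ (r * z') (hr.mul hz')
      rwa [show r * y₀ * z' = y₀ * (r * z') by ring])
    rwa [mul_assoc] at this
  refine ⟨z * s * (y₀ * δ), hmulC _ hzsI, s * (y₀ * δ), hmulC _ hsI, ?_, by ring⟩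
  rw [map_mul, hs1, ha₀1, one_mul]

end Groth.Agent.H27.Tate
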