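import Mathlib
import Groth.Agent.H27.TrRes.Diff5
import Groth.Agent.H55.FFInertia

/-!
# Local parameters generate: `K' = K(s)` and residue degree one lifting
-/

set_option autoImplicit false

namespace Groth.Agent.H27.Tate

open LinearMap HahnSeries WithZero FunFld Groth.Agent.H55 Polynomial

universe u v w

variable {k : Type u} {K K' : Type v} [Field k] [Field K] [Field K'] [Algebra k K] [Algebra K K']
  [Algebra k K'] [IsScalarTower k K K']

/-- Residue degree one: every element of `O_Q` is congruent to an element of `O_P`. -/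
theorem exists_lift_of_surjective (P : Place k K) (Q : Place k K') [P.1.HasExtension Q.1]
    (hf : Function.Surjective
      (algebraMap (IsLocalRing.ResidueField P.O) (IsLocalRing.ResidueField Q.O)))
    (c : K') (hc : Q.1 c ≤ 1) : ∃ u : K, P.1 u ≤ 1 ∧ Q.1 (c - algebraMap K K' u) < 1 := by
  obtain ⟨ū, hū⟩ := hf (IsLocalRing.residue Q.O ⟨c, hc⟩)
  obtain ⟨u, rfl⟩ := IsLocalRing.residue_surjective ū
  refine ⟨u.1, (Valuation.mem_valuationSubring_iff P.1 _).1 u.2, ?_⟩
  have h1 : IsLocalRing.residue Q.O (algebraMap P.O Q.O u) = IsLocalRing.residue Q.O ⟨c, hc⟩ := hū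
  have h2 : (⟨c, hc⟩ - algebraMap P.O Q.O u : Q.O) ∈ IsLocalRing.maximalIdeal Q.O := by
    rw [← IsLocalRing.residue_eq_zero_iff, map_sub, h1, sub_self]
  exact (mem_maximalIdeal_iff Q _).1 h2

theorem resExt_surjective_of_surjective {P : Place k K} {Q : Place k K'} {e : ℕ}
    (he : IsOverWith Q P e) [P.1.HasExtension Q.1]
    (hf : Function.Surjective
      (algebraMap (IsLocalRing.ResidueField P.O) (IsLocalRing.ResidueField Q.O))) :
    Function.Surjective (resExt he) := by
  intro c
  obtain ⟨ū, hū⟩ := hf c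
  obtain ⟨u, rfl⟩ := IsLocalRing.residue_surjective ū
  refine ⟨IsLocalRing.residue P.O u, ?_⟩
  rw [resExt_residue, ← hū]
  rfl

/-- A local parameter at `Q` which is a unit at the other places over `P` generates `K'` when the
residue degree is one. -/
theorem adjoin_eq_top_of_localParameter [FiniteDimensional K K']
    (hK : FunFld.IsFunctionField k K) (P : Place k K) (Q : Place k K') (e : ℕ)
    (he : IsOverWith Q P e) (hres : Function.Surjective (resExt he))
    (s : K') (hs : Q.1 s = exp (-1))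
    (hs' : ∀ Q' : Place k K', IsOver Q' P → Q' ≠ Q → Q'.1 s = 1) :
    IntermediateField.adjoin K ({s} : Set K') = ⊤ := by
  classical
  set L := IntermediateField.adjoin K ({s} : Set K') with hL
  have hK1 : G.IsFF1 k K := G.isFF1_of_isFunctionField hK
  have hL1 : G.IsFF1 k L := isFF1_of_finite hK1
  haveI : IsScalarTower k L K' := IsScalarTower.of_algebraMap_eq (fun c => rfl)
  obtain ⟨QL, eL, heL⟩ := exists_place_under hL1 Q
  have hsL : s ∈ L := IntermediateField.mem_adjoin_simple_self K s
  have h1 : Q.1 s = QL.1 ⟨s, hsL⟩ ^ eL := heL ⟨s, hsL⟩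
  have hQL0 : QL.1 ⟨s, hsL⟩ ≠ 0 := by
    intro h0
    rw [h0, hs] at h1
    rcases Nat.eq_zero_or_pos eL with h | h
    · exact (isOverWith_pos heL).ne' h
    · rw [zero_pow h.ne'] at h1; exact exp_ne_zero h1
  have heL1 : eL = 1 := by
    rw [hs, ← exp_log hQL0, ← exp_nsmul, exp_inj, nsmul_eq_mul] at h1
    have : (eL : ℤ) ∣ 1 := ⟨-log (QL.1 ⟨s, hsL⟩), by linarith⟩
    exact Nat.dvd_one.1 (Int.natCast_dvd_natCast.1 (by simpa using this))
  subst heL1
  rw [pow_one] at h1
  have hLP : IsOverWith QL P e := by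
    intro x
    have := heL (algebraMap K L x)
    rw [pow_one] at this
    rw [← this, ← he x]
    rfl
  have huniq : ∀ Q'' : Place k K', IsOver Q'' QL → Q'' = Q := by
    rintro Q'' ⟨e'', h''⟩
    by_contra hne
    have hover : IsOver Q'' P := ⟨e * e'', isOverWith_trans h'' hLP⟩
    have h2 := hs' Q'' hover hne
    have h3 : Q''.1 s = QL.1 ⟨s, hsL⟩ ^ e'' := h'' ⟨s, hsL⟩
    rw [h2, ← h1, hs, ← exp_nsmul, ← exp_zero, exp_inj, nsmul_eq_mul] at h3
    have := isOverWith_pos h''
    omega
  obtain ⟨-, hsum⟩ := G.sum_ramIdx_mul_deg (K' := K') hL1 QL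
  have hsum1 := hsum {Q} (fun Q'' => by
    rw [Finset.mem_singleton]
    exact ⟨fun h => h ▸ ⟨1, heL⟩, huniq Q''⟩)
  rw [Finset.sum_singleton, ramIdx_eq heL, one_mul] at hsum1
  have hQP : Q.deg = P.deg := deg_eq_of_resExt_surjective he hres
  haveI := G.residue_finiteDimensional hL1 QL
  have hPL : P.deg ≤ QL.deg := deg_le_of_isOverWith hLP
  have hpos : 0 < P.deg := G.deg_pos hK1 P
  have hfpos : 0 < Module.finrank L K' := Module.finrank_pos
  have hf1 : Module.finrank L K' = 1 := by
    by_contra hne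
    have h2 : 2 ≤ Module.finrank L K' := by omega
    have : 2 * QL.deg ≤ Module.finrank L K' * QL.deg := Nat.mul_le_mul_right _ h2
    omega
  exact IntermediateField.finrank_eq_one_iff_eq_top.1 hf1

end Groth.Agent.H27.Tate
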