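import Mathlib
import Groth.Prelude.Def_LocRes
import Groth.Agent.H27.TrRes.GenPi

/-!
# The valuation ring of a finite extension of `K((X))` is a finitely generated module
(successive approximation)
-/

set_option autoImplicit false

namespace Groth.Agent.H27.Tate

open LinearMap HahnSeries WithZero

theorem le_exp_neg_one_of_lt_one {x : WithZero (Multiplicative ℤ)} (h : x < 1) :
    x ≤ exp (-1 : ℤ) := by
  by_cases hx : x = 0
  · rw [hx]; exact zero_le'
  · rw [← exp_log hx] at h ⊢
    rw [← exp_zero, exp_lt_exp] at h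
    rw [exp_le_exp]; omega

theorem eq_zero_of_forall_le_exp {x : WithZero (Multiplicative ℤ)}
    (h : ∀ S : ℕ, x ≤ exp (-(S : ℤ))) : x = 0 := by
  by_contra hx
  obtain ⟨n, hn⟩ : ∃ n : ℤ, x = exp n := ⟨log x, (exp_log hx).symm⟩
  have h1 := h (1 - n).toNat
  rw [hn, exp_le_exp] at h1
  have := Int.self_le_toNat (1 - n)
  omega

/-- The coefficientwise actions form a tower. -/
theorem isScalarTower_laurent (K L : Type*) [Field K] [Field L] [Algebra K L] :
    @IsScalarTower K L (LaurentSeries L) Algebra.toSMul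
      (Algebra.toSMul (R := L) (A := LaurentSeries L))
      (Algebra.toSMul (R := K) (A := LaurentSeries L)) :=
  IsScalarTower.of_algebraMap_eq (fun x => by
    rw [HahnSeries.algebraMap_apply', HahnSeries.algebraMap_apply', PowerSeries.algebraMap_apply,
      PowerSeries.algebraMap_apply, Algebra.algebraMap_self, RingHom.id_apply])

section Local

universe u v

variable {K L : Type u} {F E : Type v} [Field K] [Field L] [Field F] [Field E]
  [Algebra K F] [Algebra F E] [Algebra K E] [IsScalarTower K F E]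
  [Algebra K L] [Algebra L E] [IsScalarTower K L E] [FiniteDimensional K L]
  {v : Valuation F (WithZero (Multiplicative ℤ))} {w : Valuation E (WithZero (Multiplicative ℤ))}
  {φ : F →ₐ[K] LaurentSeries K} {ψ : E →ₐ[L] LaurentSeries L}

theorem val_coe_powerSeries_le_one (g : PowerSeries K) :
    Valued.v ((g : LaurentSeries K)) ≤ (1 : WithZero (Multiplicative ℤ)) := by
  rw [← exp_zero, ← neg_zero, LaurentSeries.valuation_le_iff_coeff_lt_eq_zero]
  intro n hn
  rw [PowerSeries.coeff_coe, if_pos hn]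

theorem mk_eq_C_add_X_mul (c : ℕ → K) :
    ((PowerSeries.mk c : PowerSeries K) : LaurentSeries K) =
      HahnSeries.C (c 0) + single 1 1 * ((PowerSeries.mk fun s => c (s + 1) : PowerSeries K) :
        LaurentSeries K) := by
  have h : (PowerSeries.mk c : PowerSeries K) =
      PowerSeries.C (c 0) + PowerSeries.X * PowerSeries.mk fun s => c (s + 1) := by
    ext n
    rcases n with _ | n
    · simp
    · simp [PowerSeries.coeff_succ_X_mul]
  rw [h, PowerSeries.coe_add, PowerSeries.coe_mul, PowerSeries.coe_C, PowerSeries.coe_X]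

theorem exists_fg [hvw : v.HasExtension w] (hφ : LocRes.IsExpansionAt v φ)
    (hφs : Function.Surjective φ) (hψ : LocRes.IsExpansionAt w ψ) :
    ∃ (r : ℕ) (z : Fin r → E), (∀ i, w (z i) ≤ 1) ∧ ∀ u : E, w u ≤ 1 →
      ∃ C : Fin r → F, (∀ i, v (C i) ≤ 1) ∧ u = ∑ i, algebraMap F E (C i) * z i := by
  classical
  have hequiv : v.IsEquiv (w.comap (algebraMap F E)) := hvw.val_isEquiv_comap
  have hle : ∀ {f : F}, v f ≤ 1 → w (algebraMap F E f) ≤ 1 := fun {f} hf =>
    hequiv.le_one_iff_le_one.1 hf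
  -- the uniformizer
  obtain ⟨t₀, ht₀⟩ := hφs (single 1 1)
  have hvt₀ : v t₀ ≤ exp (-1 : ℤ) := by
    rw [← hφ.1, ht₀, LaurentSeries.valuation_le_iff_coeff_lt_eq_zero]
    intro n hn
    rw [coeff_single_of_ne (by omega)]
  have ht₀0 : t₀ ≠ 0 := by
    rintro rfl
    rw [map_zero] at ht₀
    have := congrArg (fun f : LaurentSeries K => f.coeff 1) ht₀
    simp at this
  set T : E := algebraMap F E t₀ with hT
  have hT0 : T ≠ 0 := (map_ne_zero _).2 ht₀0
  have hwT0 : w T ≠ 0 := (w.ne_zero_iff).2 hT0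
  have hwT1 : w T ≤ exp (-1 : ℤ) := by
    refine le_exp_neg_one_of_lt_one (hequiv.lt_one_iff_lt_one.1 ?_)
    exact lt_of_le_of_lt hvt₀ (by rw [← exp_zero, exp_lt_exp]; omega)
  obtain ⟨e', he'⟩ : ∃ e' : ℕ, w T = exp (-(e' : ℤ)) := by
    refine ⟨(-log (w T)).toNat, ?_⟩
    have h1 : log (w T) ≤ -1 := by
      have := hwT1
      rwa [← exp_log hwT0, exp_le_exp] at this
    rw [Int.toNat_of_nonneg (by omega), neg_neg, exp_log hwT0]
  -- the K-structure
  haveI := isScalarTower_laurent K L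
  let ψK : E →ₐ[K] LaurentSeries L := ψ.restrictScalars K
  have hψK : ∀ i : Unit, LocRes.IsExpansionAt ((fun _ => w) i) ((fun _ : Unit => ψK) i) :=
    fun _ => ⟨hψ.1, hψ.2.1, hψ.2.2⟩
  set O' : Submodule K E := OI (F := fun _ : Unit => L) (fun _ : Unit => ψK) with hO'
  have memO' : ∀ {z : E}, z ∈ O' ↔ w z ≤ 1 := fun {z} => by
    rw [hO', mem_OI hψK]
    exact ⟨fun h => h (), fun h _ => h⟩
  let ρ : E →ₗ[K] (Fin e' → L) := LinearMap.pi fun j : Fin e' => cf K ((j : ℕ) : ℤ) ∘ₗ expL ψK
  have hρ : ∀ (z : E) (j : Fin e'), ρ z j = (ψ z).coeff ((j : ℕ) : ℤ) := fun _ _ => rfl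
  have hker : ∀ z : E, w z ≤ 1 → ρ z = 0 → ∃ u' : E, w u' ≤ 1 ∧ z = T * u' := by
    intro z hz hρz
    have h1 : w z ≤ w T := by
      rw [he', ← hψ.1, LaurentSeries.valuation_le_iff_coeff_lt_eq_zero]
      intro n hn
      rcases lt_or_ge n 0 with hn0 | hn0
      · have h2 : Valued.v (ψ z) ≤ exp (-(0 : ℤ)) := by rw [hψ.1, neg_zero, exp_zero]; exact hz
        exact (LaurentSeries.valuation_le_iff_coeff_lt_eq_zero L).1 h2 n hn0
      · have hj : n.toNat < e' := by omega
        have := congr_fun hρz ⟨n.toNat, hj⟩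
        rw [hρ] at this
        have e : (((⟨n.toNat, hj⟩ : Fin e') : ℕ) : ℤ) = n := by
          show (n.toNat : ℤ) = n
          omega
        rw [e] at this
        exact this
    refine ⟨T⁻¹ * z, ?_, by field_simp⟩
    rw [map_mul, map_inv₀]
    exact (inv_mul_le_iff₀ (zero_lt_iff.2 hwT0)).2 (by rwa [mul_one])
  -- generators
  set Wimg : Submodule K (Fin e' → L) := O'.map ρ with hWimg
  let r := Module.finrank K Wimg
  let bW : Module.Basis (Fin r) K Wimg := Module.finBasis K Wimg
  have hz : ∀ i : Fin r, ∃ z ∈ O', ρ z = (bW i : Fin e' → L) := fun i => (bW i).2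
  choose z hzO hzρ using hz
  have hspan : ∀ u : ↥O', ∃ (c : Fin r → K) (u' : ↥O'),
      (u : E) = ∑ i, algebraMap K E (c i) * z i + T * (u' : E) := by
    intro u
    set c := bW.repr ⟨ρ u, Submodule.mem_map_of_mem u.2⟩ with hc
    have h1 : ρ ((u : E) - ∑ i, c i • z i) = 0 := by
      rw [map_sub, map_sum]
      have h2 : ρ u = ((⟨ρ u, Submodule.mem_map_of_mem u.2⟩ : Wimg) : Fin e' → L) := rfl
      rw [h2, ← bW.sum_repr ⟨ρ u, Submodule.mem_map_of_mem u.2⟩, ← hc]
      rw [Submodule.coe_sum, sub_eq_zero]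
      refine Finset.sum_congr rfl fun i _ => ?_
      rw [map_smul, hzρ, Submodule.coe_smul]
    have h3 : (u : E) - ∑ i, c i • z i ∈ O' :=
      sub_mem u.2 (Submodule.sum_mem _ fun i _ => Submodule.smul_mem _ _ (hzO i))
    obtain ⟨u', hu', hu'e⟩ := hker _ (memO'.1 h3) h1
    refine ⟨c, ⟨u', memO'.2 hu'⟩, ?_⟩
    show (u : E) = _ + T * u'
    rw [← hu'e]
    simp only [Algebra.smul_def]
    abel
  choose dig nx hdn using hspan
  -- the coefficients
  have hCf : ∀ c : ℕ → K, ∃ f : F, φ f = ((PowerSeries.mk c : PowerSeries K) : LaurentSeries K) :=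
    fun c => hφs _
  choose Cf hCfφ using hCf
  have hCfv : ∀ c, v (Cf c) ≤ 1 := fun c => by
    rw [← hφ.1, hCfφ]
    exact val_coe_powerSeries_le_one _
  have hCfrec : ∀ c : ℕ → K, Cf c = algebraMap K F (c 0) + t₀ * Cf (fun s => c (s + 1)) := by
    intro c
    apply φ.toRingHom.injective
    show φ (Cf c) = φ (algebraMap K F (c 0) + t₀ * Cf (fun s => c (s + 1)))
    rw [map_add, map_mul, hCfφ, hCfφ, ht₀, LocRes.map_algebraMap, mk_eq_C_add_X_mul]
    rfl
  let digits : ↥O' → Fin r → ℕ → K := fun u i s => dig (nx^[s] u) i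
  have hdigits : ∀ u i, (fun s => digits u i (s + 1)) = digits (nx u) i := by
    intro u i
    funext s
    show dig (nx^[s + 1] u) i = dig (nx^[s] (nx u)) i
    rw [Function.iterate_succ_apply]
  have hmain : ∀ S : ℕ, ∀ u : ↥O', ∃ u'' : E, w u'' ≤ 1 ∧
      (u : E) - ∑ i, algebraMap F E (Cf (digits u i)) * z i = T ^ S * u'' := by
    intro S
    induction S with
    | zero =>
      intro u
      refine ⟨_, ?_, by rw [pow_zero, one_mul]⟩
      refine memO'.1 (sub_mem u.2 (Submodule.sum_mem _ fun i _ => memO'.2 ?_))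
      rw [map_mul]
      exact mul_le_one' (hle (hCfv _)) (memO'.1 (hzO i))
    | succ S ih =>
      intro u
      obtain ⟨u'', hu'', hu''e⟩ := ih (nx u)
      refine ⟨u'', hu'', ?_⟩
      have hterm : ∀ i, algebraMap F E (Cf (digits u i)) * z i =
          algebraMap K E (dig u i) * z i +
            T * (algebraMap F E (Cf (digits (nx u) i)) * z i) := by
        intro i
        rw [hCfrec (digits u i), hdigits, map_add, map_mul, ← IsScalarTower.algebraMap_apply]
        show (algebraMap K E (dig (nx^[0] u) i) + T * _) * z i = _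
        rw [Function.iterate_zero_apply]
        ring
      have hsum : ∑ i, algebraMap F E (Cf (digits u i)) * z i =
          ∑ i, algebraMap K E (dig u i) * z i +
            T * ∑ i, algebraMap F E (Cf (digits (nx u) i)) * z i := by
        rw [Finset.mul_sum, ← Finset.sum_add_distrib]
        exact Finset.sum_congr rfl fun i _ => hterm i
      rw [pow_succ', mul_assoc, ← hu''e, hsum, hdn u]
      ring
  refine ⟨r, z, fun i => memO'.1 (hzO i), fun u hu => ?_⟩
  refine ⟨fun i => Cf (digits ⟨u, memO'.2 hu⟩ i), fun i => hCfv _, ?_⟩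
  have h0 : w (u - ∑ i, algebraMap F E (Cf (digits ⟨u, memO'.2 hu⟩ i)) * z i) = 0 := by
    refine eq_zero_of_forall_le_exp fun S => ?_
    obtain ⟨u'', hu'', hu''e⟩ := hmain S ⟨u, memO'.2 hu⟩
    rw [show (u - ∑ i, algebraMap F E (Cf (digits ⟨u, memO'.2 hu⟩ i)) * z i) = T ^ S * u'' from
      hu''e, map_mul, map_pow]
    calc w T ^ S * w u'' ≤ exp (-1 : ℤ) ^ S * 1 :=
          mul_le_mul' (pow_le_pow_left₀ zero_le' hwT1 S) hu''
      _ = exp (-(S : ℤ)) := by rw [mul_one, ← exp_nsmul]; congr 1; simp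
  exact sub_eq_zero.1 ((w.zero_iff).1 h0)

end Local

end Groth.Agent.H27.Tate
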