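import Mathlib
import Groth.Agent.H27.TrRes.Diff6
import Groth.Agent.H27.TrRes.LocalFG

/-!
# Approximation inside `O_P[s]` and the upper bound for `v_Q(f'(s))`
-/

set_option autoImplicit false

namespace Groth.Agent.H27.Tate

open LinearMap HahnSeries WithZero FunFld Groth.Agent.H55 Polynomial

universe u v w

variable {k : Type u} {K K' : Type v} [Field k] [Field K] [Field K'] [Algebra k K] [Algebra K K']
  [Algebra k K'] [IsScalarTower k K K']

theorem val_aeval_le_one (Q : Place k K') (s : K') (hs : Q.1 s ≤ 1) (p : k[X]) :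
    Q.1 (aeval s p) ≤ 1 := by
  rw [aeval_eq_sum_range]
  refine Q.1.map_sum_le (fun i _ => ?_)
  rw [Algebra.smul_def, map_mul, map_pow]
  exact mul_le_one' (Q.2.1 _) (pow_le_one₀ zero_le' hs)

theorem val_algebraMap_eq_one (Q : Place k K') {c : k} (hc : c ≠ 0) :
    Q.1 (algebraMap k K' c) = 1 := by
  refine le_antisymm (Q.2.1 c) ?_
  have h1 := Q.2.1 c⁻¹
  rw [map_inv₀, map_inv₀] at h1
  have h0 : Q.1 (algebraMap k K' c) ≠ 0 := (Q.1.ne_zero_iff).2 ((_root_.map_ne_zero _).2 hc)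
  exact (inv_le_one₀ (zero_lt_iff.2 h0)).1 h1

/-- A polynomial over `k` in a unit `s` at `Q'`, with nonzero constant term, vanishing at `Q'`. -/
theorem exists_poly_small (hK1' : G.IsFF1 k K') (Q' : Place k K') (s : K') (hs1 : Q'.1 s = 1) :
    ∃ μ : k[X], μ.coeff 0 ≠ 0 ∧ Q'.1 (aeval s μ) < 1 := by
  have hfin := G.residue_finiteDimensional hK1' Q'
  letI algM : Algebra k (IsLocalRing.ResidueField Q'.O) := IsLocalRing.ResidueField.algebra Q'.O
  set sO : Q'.O := ⟨s, hs1.le⟩ with hsO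
  set sbar := IsLocalRing.residue Q'.O sO with hsbar
  have hint : IsIntegral k sbar := @IsIntegral.of_finite k _ _ _ algM hfin sbar
  have hne : sbar ≠ 0 := by
    intro h0
    rw [hsbar, IsLocalRing.residue_eq_zero_iff, mem_maximalIdeal_iff] at h0
    rw [hsO] at h0
    simp only at h0
    rw [hs1] at h0
    exact lt_irrefl _ h0
  refine ⟨minpoly k sbar, minpoly.coeff_zero_ne_zero hint hne, ?_⟩
  let resA : Q'.O →ₐ[k] IsLocalRing.ResidueField Q'.O :=
    { IsLocalRing.residue Q'.O with commutes' := fun c => rfl }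
  have h1 : resA (aeval sO (minpoly k sbar)) = 0 := by
    rw [← Polynomial.aeval_algHom_apply]
    exact minpoly.aeval k sbar
  have h2 : aeval sO (minpoly k sbar) ∈ IsLocalRing.maximalIdeal Q'.O :=
    (IsLocalRing.residue_eq_zero_iff _).1 h1
  rw [mem_maximalIdeal_iff] at h2
  let valA : Q'.O →ₐ[k] K' := { Q'.O.subtype with commutes' := fun c => rfl }
  have h3 : ((aeval sO (minpoly k sbar) : Q'.O) : K') = aeval s (minpoly k sbar) :=
    (Polynomial.aeval_algHom_apply valA sO (minpoly k sbar)).symm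
  rwa [h3] at h2

/-- At a zero of `s` the value of `μ(s)` is that of its constant term. -/
theorem val_aeval_eq_one (Q : Place k K') (s : K') (hs : Q.1 s < 1) (μ : k[X])
    (hμ : μ.coeff 0 ≠ 0) : Q.1 (aeval s μ) = 1 := by
  have h1 : aeval s μ = aeval s μ.divX * s + algebraMap k K' (μ.coeff 0) := by
    conv_lhs => rw [← Polynomial.divX_mul_X_add μ]
    rw [map_add, map_mul, aeval_X, aeval_C]
  rw [h1, Valuation.map_add_eq_of_lt_right, val_algebraMap_eq_one Q hμ]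
  rw [val_algebraMap_eq_one Q hμ, map_mul]
  calc Q.1 (aeval s μ.divX) * Q.1 s ≤ 1 * Q.1 s :=
        mul_le_mul' (val_aeval_le_one Q s hs.le _) le_rfl
    _ = Q.1 s := one_mul _
    _ < 1 := hs

/-- A polynomial in `s` over `k`: unit at `Q`, vanishing at the other places. -/
theorem exists_b0 (hK1' : G.IsFF1 k K') (Qs : Finset (Place k K')) (Q : Place k K') (s : K')
    (hs : Q.1 s < 1) (hs' : ∀ Q' ∈ Qs, Q' ≠ Q → Q'.1 s = 1) :
    ∃ p : k[X], Q.1 (aeval s p) = 1 ∧ ∀ Q' ∈ Qs, Q' ≠ Q → Q'.1 (aeval s p) < 1 := by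
  classical
  have hex : ∀ Q' : Place k K', ∃ μ : k[X], μ.coeff 0 ≠ 0 ∧ (Q'.1 s = 1 → Q'.1 (aeval s μ) < 1) := by
    intro Q'
    by_cases h : Q'.1 s = 1
    · obtain ⟨μ, h1, h2⟩ := exists_poly_small hK1' Q' s h
      exact ⟨μ, h1, fun _ => h2⟩
    · exact ⟨1, by simp, fun h' => absurd h' h⟩
  choose μ hμ0 hμ using hex
  refine ⟨∏ Q' ∈ Qs.erase Q, μ Q', ?_, fun Q' hQ' hne => ?_⟩
  · rw [map_prod, map_prod]
    exact Finset.prod_eq_one (fun Q' _ => val_aeval_eq_one Q s hs _ (hμ0 Q'))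
  · have hmem : Q' ∈ Qs.erase Q := Finset.mem_erase.2 ⟨hne, hQ'⟩
    rw [map_prod, map_prod, ← Finset.mul_prod_erase _ _ hmem]
    have h1 := hμ Q' (hs' Q' hQ' hne)
    have h2 : ∏ Q'' ∈ (Qs.erase Q).erase Q', Q'.1 (aeval s (μ Q'')) ≤ 1 :=
      Finset.prod_le_one' (fun Q'' _ => val_aeval_le_one Q' s (hs' Q' hQ' hne).le _)
    calc Q'.1 (aeval s (μ Q')) * ∏ Q'' ∈ (Qs.erase Q).erase Q', Q'.1 (aeval s (μ Q''))
        ≤ Q'.1 (aeval s (μ Q')) * 1 := mul_le_mul' le_rfl h2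
      _ = Q'.1 (aeval s (μ Q')) := mul_one _
      _ < 1 := h1

section Adjoin

variable (P : Place k K) [Algebra P.O K'] [IsScalarTower P.O K K']

theorem algebraMap_mem_adjoin (s : K') {u : K} (hu : P.1 u ≤ 1) :
    algebraMap K K' u ∈ Algebra.adjoin P.O ({s} : Set K') := by
  have : algebraMap K K' u = algebraMap P.O K' ⟨u, hu⟩ := by
    rw [IsScalarTower.algebraMap_apply P.O K K']
    rfl
  rw [this]
  exact Subalgebra.algebraMap_mem _ _

theorem aeval_mem_adjoin (s : K') (p : k[X]) :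
    aeval s p ∈ Algebra.adjoin P.O ({s} : Set K') := by
  rw [aeval_eq_sum_range]
  refine Subalgebra.sum_mem _ (fun i _ => ?_)
  rw [Algebra.smul_def, IsScalarTower.algebraMap_apply k K K']
  exact Subalgebra.mul_mem _ (algebraMap_mem_adjoin P s (P.2.1 _))
    (Subalgebra.pow_mem _ (Algebra.self_mem_adjoin_singleton _ _) _)

/-- Successive approximation at `Q` by elements of `O_P[s]`. -/
theorem exists_adjoin_approx (Q : Place k K')
    (hlift : ∀ c : K', Q.1 c ≤ 1 → ∃ u : K, P.1 u ≤ 1 ∧ Q.1 (c - algebraMap K K' u) < 1)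
    (s : K') (hs : Q.1 s = exp (-1)) (m : ℕ) (t : K') (ht : Q.1 t ≤ 1) :
    ∃ p ∈ Algebra.adjoin P.O ({s} : Set K'), Q.1 (t - p) ≤ exp (-(m : ℤ)) := by
  induction m with
  | zero =>
    refine ⟨0, Subalgebra.zero_mem _, ?_⟩
    rw [sub_zero]
    simpa using ht
  | succ m ih =>
    obtain ⟨p, hp, hpv⟩ := ih
    have hs0 : s ≠ 0 := by
      intro h0; rw [h0, map_zero] at hs; exact exp_ne_zero hs.symm
    have hc : Q.1 ((t - p) * (s ^ m)⁻¹) ≤ 1 := by
      rw [map_mul, map_inv₀, map_pow, hs, ← exp_nsmul, ← exp_neg, nsmul_eq_mul]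
      calc Q.1 (t - p) * exp (-((m : ℤ) * -1)) ≤ exp (-(m : ℤ)) * exp (-((m : ℤ) * -1)) :=
            mul_le_mul' hpv le_rfl
        _ = 1 := by rw [← exp_add, ← exp_zero]; congr 1; ring
    obtain ⟨u, hu, huv⟩ := hlift _ hc
    refine ⟨p + algebraMap K K' u * s ^ m, Subalgebra.add_mem _ hp
      (Subalgebra.mul_mem _ (algebraMap_mem_adjoin P s hu)
        (Subalgebra.pow_mem _ (Algebra.self_mem_adjoin_singleton _ _) _)), ?_⟩
    have e1 : t - (p + algebraMap K K' u * s ^ m)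
        = s ^ m * ((t - p) * (s ^ m)⁻¹ - algebraMap K K' u) := by
      field_simp
      ring
    rw [e1, map_mul, map_pow, hs, ← exp_nsmul, nsmul_eq_mul]
    calc exp ((m : ℤ) * -1) * Q.1 ((t - p) * (s ^ m)⁻¹ - algebraMap K K' u)
        ≤ exp ((m : ℤ) * -1) * exp (-1) :=
          mul_le_mul' le_rfl (le_exp_neg_one_of_lt_one huv)
      _ = exp (-((m + 1 : ℕ) : ℤ)) := by
          rw [← exp_add]; congr 1; push_cast; ring

/-- Approximation at `Q` by elements of `O_P[s]` which are small at the other places. -/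
theorem exists_adjoin_approx_small (Qs : Finset (Place k K')) (Q : Place k K')
    (hlift : ∀ c : K', Q.1 c ≤ 1 → ∃ u : K, P.1 u ≤ 1 ∧ Q.1 (c - algebraMap K K' u) < 1)
    (s : K') (hs : Q.1 s = exp (-1))
    (b₀ : K') (hb₀ : b₀ ∈ Algebra.adjoin P.O ({s} : Set K')) (hb₀Q : Q.1 b₀ = 1)
    (hb₀' : ∀ Q' ∈ Qs, Q' ≠ Q → Q'.1 b₀ < 1)
    (hint : ∀ p ∈ Algebra.adjoin P.O ({s} : Set K'), ∀ Q' ∈ Qs, Q'.1 p ≤ 1)
    (t : K') (ht : Q.1 t ≤ 1) (m : ℕ) (M : Place k K' → WithZero (Multiplicative ℤ))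
    (hM : ∀ Q', M Q' ≠ 0) :
    ∃ z ∈ Algebra.adjoin P.O ({s} : Set K'), Q.1 (z - t) ≤ exp (-(m : ℤ)) ∧
      ∀ Q' ∈ Qs, Q' ≠ Q → Q'.1 z ≤ (M Q')⁻¹ := by
  classical
  obtain ⟨N₀, hN₀⟩ := (Qs.image (fun Q' => log (M Q'))).exists_le
  set N := N₀.toNat with hN
  have hb₀0 : b₀ ≠ 0 := by
    intro h0; rw [h0, map_zero] at hb₀Q; exact zero_ne_one hb₀Q
  have ht' : Q.1 (t * (b₀ ^ N)⁻¹) ≤ 1 := by
    rw [map_mul, map_inv₀, map_pow, hb₀Q, one_pow, inv_one, mul_one]; exact ht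
  obtain ⟨p, hp, hpv⟩ := exists_adjoin_approx P Q hlift s hs m _ ht'
  refine ⟨b₀ ^ N * p, Subalgebra.mul_mem _ (Subalgebra.pow_mem _ hb₀ _) hp, ?_, ?_⟩
  · have e1 : b₀ ^ N * p - t = - (b₀ ^ N * (t * (b₀ ^ N)⁻¹ - p)) := by
      field_simp
      ring
    rw [e1, Valuation.map_neg, map_mul, map_pow, hb₀Q, one_pow, one_mul]
    exact hpv
  · intro Q' hQ' hne
    rw [map_mul, map_pow]
    have h1 : Q'.1 b₀ ≤ exp (-1) := le_exp_neg_one_of_lt_one (hb₀' Q' hQ' hne)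
    have h2 : log (M Q') ≤ N₀ := hN₀ _ (Finset.mem_image_of_mem _ hQ')
    calc Q'.1 b₀ ^ N * Q'.1 p ≤ exp (-1) ^ N * 1 :=
          mul_le_mul' (pow_le_pow_left₀ zero_le' h1 N) (hint p hp Q' hQ')
      _ = exp (-(N : ℤ)) := by rw [mul_one, ← exp_nsmul, nsmul_eq_mul]; congr 1; ring
      _ ≤ exp (-log (M Q')) := by
          rw [exp_le_exp, hN]
          have := Int.self_le_toNat N₀
          omega
      _ = (M Q')⁻¹ := exp_neg_log_eq_inv (hM Q')

end Adjoin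

end Groth.Agent.H27.Tate
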