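import Mathlib
import Groth.Agent.H27.TrRes.Diff7

/-!
# `d(Q|P) = v_Q(f'(s))` for a local parameter `s` which is a unit at the other places
-/

set_option autoImplicit false

namespace Groth.Agent.H27.Tate

open LinearMap HahnSeries WithZero FunFld Groth.Agent.H55 Polynomial

universe u v w

variable {k : Type u} {K K' : Type v} [Field k] [Field K] [Field K'] [Algebra k K] [Algebra K K']
  [Algebra k K'] [IsScalarTower k K K']

/-- Upper bound for elements whose trace pairing with a `Q`-adically dense set (small at the other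
places) is integral. -/
theorem val_le_of_trace_le [FiniteDimensional K K'] [Algebra.IsSeparable K K']
    (hK : FunFld.IsFunctionField k K) (hg : FunFld.IsGeometric k K)
    (F F' : Type w) [Field F] [Algebra k F] [Field F'] [Algebra k F']
    (P : FunFld.Place k K) (Q : FunFld.Place k K') (e : ℕ) (he : FunFld.IsOverWith Q P e)
    (φ : K →ₐ[k] LaurentSeries F) (hφ : LocRes.IsExpansionAt P.1 φ)
    (ψ : K' →ₐ[k] LaurentSeries F') (hψ : LocRes.IsExpansionAt Q.1 ψ)
    (x : K) (hx : LocRes.vDiff φ 1 x ≠ 0) (hx' : LocRes.vDiff ψ 1 (algebraMap K K' x) ≠ 0)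
    (Qs : Finset (Place k K')) (hQs : ∀ Q', Q' ∈ Qs ↔ IsOver Q' P)
    (A : Set K')
    (happ : ∀ t : K', Q.1 t ≤ 1 → ∀ (m : ℕ) (M : Place k K' → WithZero (Multiplicative ℤ)),
      (∀ Q', M Q' ≠ 0) → ∃ z ∈ A, Q.1 (z - t) ≤ exp (-(m : ℤ)) ∧
        ∀ Q' ∈ Qs, Q' ≠ Q → Q'.1 z ≤ (M Q')⁻¹)
    (y : K') (hy : ∀ z ∈ A, P.1 (Algebra.trace K K' (y * z)) ≤ 1) :
    Q.1 y ≤ exp (LocRes.diffExp φ ψ e x) := by
  classical
  obtain ⟨hF, hF', hsF, hsF'⟩ := dual_val_aux hK hg F F' P Q e he φ hφ ψ hψ x hx hx'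
  haveI := hF
  haveI := hF'
  haveI := hsF
  haveI := hsF'
  have hQ : Q ∈ Qs := (hQs Q).2 ⟨e, he⟩
  set x' := algebraMap K K' x with hx'd
  set a := LocRes.ordDiff φ 1 x with ha
  set a' := LocRes.ordDiff ψ 1 x' with ha'
  have hva : LocRes.vDiff φ 1 x = exp (-a) := by
    rw [ha]; unfold LocRes.ordDiff; rw [neg_neg, exp_log hx]
  have hva' : LocRes.vDiff ψ 1 x' = exp (-a') := by
    rw [ha']; unfold LocRes.ordDiff; rw [neg_neg, exp_log hx']
  have hd : LocRes.diffExp φ ψ e x = a' - e * a := rfl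
  obtain ⟨g₁, hg₁0, hg₁⟩ := pl_exists_val_eq_exp P a
  have hQg₁ : Q.1 (algebraMap K K' g₁) = exp ((e : ℤ) * a) := by
    rw [he, hg₁, ← exp_nsmul, nsmul_eq_mul]
  by_contra hcon
  rw [not_le] at hcon
  have hy0 : Q.1 y ≠ 0 := fun h0 => by
    rw [h0] at hcon; exact not_lt_zero' hcon
  obtain ⟨n, hn⟩ : ∃ n : ℤ, Q.1 y = exp n := ⟨log (Q.1 y), (exp_log hy0).symm⟩
  rw [hn, hd, exp_lt_exp] at hcon
  obtain ⟨j, hj⟩ : ∃ j : ℤ, j = n - (a' - e * a) := ⟨_, rfl⟩
  obtain ⟨z₀, hz₀0, hz₀⟩ := pl_exists_val_eq_exp Q (-(j - 1))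
  set h₀ := y * z₀ * algebraMap K K' g₁ with hh₀
  have hv : LocRes.vDiff ψ h₀ x' = exp (1 : ℤ) := by
    rw [vDiff_eq_mul hψ, hva', map_mul, map_mul, hn, hz₀, hQg₁, ← exp_add, ← exp_add,
      ← exp_add]
    congr 1
    rw [hj]; ring
  obtain ⟨c, hc1, hc2⟩ := exists_locRes_ne_zero hψ h₀ x' hv
  let M : Place k K' → WithZero (Multiplicative ℤ) := fun Q' =>
    max 1 (max (Q'.1 (y * algebraMap K K' g₁)) (max (Q'.1 (y * algebraMap K K' g₁ * x'))
      (Q'.1 (y * algebraMap K K' g₁ * x' * x'))))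
  have hM1 : ∀ Q', 1 ≤ M Q' := fun Q' => le_max_left _ _
  have hM0 : ∀ Q', M Q' ≠ 0 := fun Q' => (lt_of_lt_of_le zero_lt_one (hM1 Q')).ne'
  have htgt : Q.1 (c * z₀) ≤ 1 := by
    rw [map_mul, hz₀]
    exact (mul_le_mul' hc1 le_rfl).trans (by rw [one_mul, ← exp_zero, exp_le_exp]; omega)
  obtain ⟨z', hz'A, hz'Q0, hz'o⟩ := happ (c * z₀) htgt j.toNat M hM0
  have hz'Q : Q.1 (z' - c * z₀) ≤ exp (-j) := by
    have : ((j.toNat : ℕ) : ℤ) = j := Int.toNat_of_nonneg (by omega)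
    rwa [this] at hz'Q0
  have hsm : ∀ Q' ∈ Qs, Q' ≠ Q → ∀ u : K', Q'.1 u ≤ M Q' → Q'.1 (u * z') ≤ 1 := by
    intro Q' hQ' hne u hu
    rw [map_mul]
    calc Q'.1 u * Q'.1 z' ≤ M Q' * (M Q')⁻¹ := mul_le_mul' hu (hz'o Q' hQ' hne)
      _ = 1 := mul_inv_cancel₀ (hM0 Q')
  have hyz := hy z' hz'A
  set h := y * z' * algebraMap K K' g₁ with hh
  have main := locRes_trace_eq_of_small hK P F φ hφ Qs hQs Q hQ F' ψ hψ h x
    (fun Q' hQ' hne => by
      have := hsm Q' hQ' hne (y * algebraMap K K' g₁)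
        (le_max_of_le_right (le_max_left _ _))
      rwa [show y * algebraMap K K' g₁ * z' = h by rw [hh]; ring] at this)
    (fun Q' hQ' hne => by
      have := hsm Q' hQ' hne (y * algebraMap K K' g₁ * x')
        (le_max_of_le_right (le_max_of_le_right (le_max_left _ _)))
      rwa [show y * algebraMap K K' g₁ * x' * z' = h * x' by rw [hh]; ring] at this)
    (fun Q' hQ' hne => by
      have := hsm Q' hQ' hne (y * algebraMap K K' g₁ * x' * x')
        (le_max_of_le_right (le_max_of_le_right (le_max_right _ _)))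
      rwa [show y * algebraMap K K' g₁ * x' * x' * z' = h * x' * x' by rw [hh]; ring] at this)
  have hL : LocRes.locRes φ (Algebra.trace K K' h) x = 0 := by
    have e1 : h = g₁ • (y * z') := by rw [Algebra.smul_def, hh]; ring
    rw [e1, map_smul, smul_eq_mul]
    refine locRes_eq_zero_of_vDiff_le_one φ _ x ?_
    rw [vDiff_eq_mul hφ, hva, map_mul, hg₁]
    calc exp a * P.1 (Algebra.trace K K' (y * z')) * exp (-a) ≤ exp a * 1 * exp (-a) :=
          mul_le_mul' (mul_le_mul' le_rfl hyz) le_rfl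
      _ = 1 := by rw [mul_one, ← exp_add, add_neg_cancel, exp_zero]
  have hR : LocRes.locRes ψ h x' ≠ 0 := by
    have e2 : h = c * h₀ + y * (z' - c * z₀) * algebraMap K K' g₁ := by
      rw [hh, hh₀]; ring
    have hv2 : LocRes.vDiff ψ (y * (z' - c * z₀) * algebraMap K K' g₁) x' ≤ 1 := by
      rw [vDiff_eq_mul hψ, hva', map_mul, map_mul, hn, hQg₁]
      calc exp n * Q.1 (z' - c * z₀) * exp ((e : ℤ) * a) * exp (-a')
          ≤ exp n * exp (-j) * exp ((e : ℤ) * a) * exp (-a') :=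
            mul_le_mul' (mul_le_mul' (mul_le_mul' le_rfl hz'Q) le_rfl) le_rfl
        _ = 1 := by
            rw [← exp_add, ← exp_add, ← exp_add, ← exp_zero]
            congr 1
            rw [hj]; ring
    rw [e2, locRes_add, locRes_eq_zero_of_vDiff_le_one ψ _ x' hv2, add_zero]
    exact hc2
  rw [hL] at main
  exact hR main.symm

/-- Euler: `Tr(z / g'(y)) ∈ O_P` for `z ∈ O_P[y]`. -/
theorem trace_div_derivative_le_one [FiniteDimensional K K'] [Algebra.IsSeparable K K']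
    (P : FunFld.Place k K) [Algebra P.O K'] [IsScalarTower P.O K K']
    (y : K') (hy : IntermediateField.adjoin K ({y} : Set K') = ⊤) (hyi : IsIntegral P.O y)
    (z : K') (hz : z ∈ Algebra.adjoin P.O ({y} : Set K')) :
    P.1 (Algebra.trace K K' ((aeval y (derivative (minpoly K y)))⁻¹ * z)) ≤ 1 := by
  have hadj : Algebra.adjoin K ({y} : Set K') = ⊤ := by
    have := IntermediateField.adjoin_simple_toSubalgebra_of_isAlgebraic
      (Algebra.IsAlgebraic.isAlgebraic (R := K) y)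
    rw [← this, hy, IntermediateField.top_toSubalgebra]
  have hEuler := traceForm_dualSubmodule_adjoin P.O K hadj hyi
  have h1 : (aeval y (derivative (minpoly K y)))⁻¹ ∈ (Algebra.traceForm K K').dualSubmodule
      (Subalgebra.toSubmodule (Algebra.adjoin P.O ({y} : Set K'))) := by
    rw [hEuler]
    have := Submodule.smul_mem_pointwise_smul (1 : K') (aeval y (derivative (minpoly K y)))⁻¹
      (Subalgebra.toSubmodule (Algebra.adjoin P.O ({y} : Set K'))) (Subalgebra.one_mem _)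
    rwa [smul_eq_mul, mul_one] at this
  have h2 := h1 z hz
  rw [Algebra.traceForm_apply, Submodule.mem_one] at h2
  obtain ⟨a, ha⟩ := h2
  rw [← ha]
  exact (Valuation.mem_valuationSubring_iff P.1 _).1 a.2

/-- **Local parameter, unit at the other places, residue degree one**: `K' = K(s)` and
`d(Q|P) = v_Q(f'(s))`. -/
theorem ord_derivative_localParameter [FiniteDimensional K K'] [Algebra.IsSeparable K K']
    (hK : FunFld.IsFunctionField k K) (hg : FunFld.IsGeometric k K)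
    (F F' : Type w) [Field F] [Algebra k F] [Field F'] [Algebra k F']
    (P : FunFld.Place k K) (Q : FunFld.Place k K') (e : ℕ) (he : FunFld.IsOverWith Q P e)
    (φ : K →ₐ[k] LaurentSeries F) (hφ : LocRes.IsExpansionAt P.1 φ)
    (ψ : K' →ₐ[k] LaurentSeries F') (hψ : LocRes.IsExpansionAt Q.1 ψ)
    (x : K) (hx : LocRes.vDiff φ 1 x ≠ 0) (hx' : LocRes.vDiff ψ 1 (algebraMap K K' x) ≠ 0)
    [P.1.HasExtension Q.1]
    (hf : Function.Surjective
      (algebraMap (IsLocalRing.ResidueField P.O) (IsLocalRing.ResidueField Q.O)))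
    (s : K') (hs : Q.1 s = WithZero.exp (-1))
    (hs' : ∀ Q' : FunFld.Place k K', FunFld.IsOver Q' P → Q' ≠ Q → Q'.1 s = 1) :
    IntermediateField.adjoin K ({s} : Set K') = ⊤ ∧
    Q.ord (aeval s (derivative (minpoly K s))) = LocRes.diffExp φ ψ e x := by
  classical
  have htop := adjoin_eq_top_of_localParameter hK P Q e he
    (resExt_surjective_of_surjective he hf) s hs hs'
  refine ⟨htop, ?_⟩
  obtain ⟨hfin, -⟩ := sum_ramIdx_mul_deg (K' := K') hK P
  set Qs := hfin.toFinset with hQsd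
  have hQs : ∀ Q', Q' ∈ Qs ↔ IsOver Q' P := fun Q' => by
    rw [hQsd, Set.Finite.mem_toFinset]; rfl
  have hQ : Q ∈ Qs := (hQs Q).2 ⟨e, he⟩
  have hslt : Q.1 s < 1 := by rw [hs, ← exp_zero, exp_lt_exp]; omega
  have hsint : s ∈ intAt Qs := by
    intro Q' hQ'
    by_cases hne : Q' = Q
    · rw [hne]; exact hslt.le
    · rw [hs' Q' ((hQs Q').1 hQ') hne]
  have hsI : IsIntegral P.O s := isIntegral_of_mem_intAt hK P Qs hQs hsint
  obtain ⟨hle, -⟩ := different_le_derivative hK hg F F' P Q e he φ hφ ψ hψ x hx hx' s htop hsI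
  refine le_antisymm ?_ hle
  set δ : K' := aeval s (derivative (minpoly K s)) with hδ
  have hδ0 : δ ≠ 0 :=
    (Algebra.IsSeparable.isSeparable K s).aeval_derivative_ne_zero (minpoly.aeval K s)
  have hK1' : G.IsFF1 k K' := isFF1_of_finite (G.isFF1_of_isFunctionField hK)
  obtain ⟨p₀, hp₀Q, hp₀'⟩ := exists_b0 hK1' Qs Q s hslt
    (fun Q' hQ' hne => hs' Q' ((hQs Q').1 hQ') hne)
  have hlift := exists_lift_of_surjective P Q hf
  have hint : ∀ p ∈ Algebra.adjoin P.O ({s} : Set K'), ∀ Q' ∈ Qs, Q'.1 p ≤ 1 :=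
    fun p hp Q' hQ' =>
      val_le_one_of_isIntegral P (adjoin_le_integralClosure hsI hp) Q' ((hQs Q').1 hQ')
  have hbound := val_le_of_trace_le hK hg F F' P Q e he φ hφ ψ hψ x hx hx' Qs hQs
    (Algebra.adjoin P.O ({s} : Set K') : Set K')
    (fun t ht m M hM => exists_adjoin_approx_small P Qs Q hlift s hs (aeval s p₀)
      (aeval_mem_adjoin P s p₀) hp₀Q hp₀' hint t ht m M hM)
    δ⁻¹ (fun z hz => trace_div_derivative_le_one P s htop hsI z hz)
  rw [map_inv₀] at hbound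
  have hv0 : Q.1 δ ≠ 0 := (Q.1.ne_zero_iff).2 hδ0
  rw [← exp_neg_log_eq_inv hv0, exp_le_exp] at hbound
  exact hbound

end Groth.Agent.H27.Tate
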