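import Mathlib
import Groth.Prelude.Def_LocRes
import Groth.Agent.H27.TrRes.LocalFG
import Groth.Agent.H27.TrRes.FFTrace

/-!
# The residue–trace formula for a finite extension of `K((X))`
-/

set_option autoImplicit false

namespace Groth.Agent.H27.Tate

open LinearMap HahnSeries WithZero

theorem exists_pow_mul_val_le_one {R : Type*} [CommRing R]
    (val : Valuation R (WithZero (Multiplicative ℤ))) (τ : R) (hτ : val τ ≤ exp (-1 : ℤ)) (a : R) :
    ∃ m : ℕ, ∀ m' : ℕ, m ≤ m' → val (τ ^ m' * a) ≤ 1 := by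
  refine ⟨(log (val a)).toNat, fun m' hm' => ?_⟩
  by_cases ha : val a = 0
  · rw [map_mul, ha, mul_zero]; exact zero_le'
  · have h2 : val a ≤ exp (m' : ℤ) := by
      rw [← exp_log ha, exp_le_exp]
      have := Int.self_le_toNat (log (val a))
      omega
    have h3 : val (τ ^ m') ≤ exp (-(m' : ℤ)) := by
      rw [map_pow]
      calc val τ ^ m' ≤ exp (-1) ^ m' := pow_le_pow_left₀ zero_le' hτ m'
        _ = exp (-(m' : ℤ)) := by rw [← exp_nsmul]; congr 1; simp
    rw [map_mul]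
    calc val (τ ^ m') * val a ≤ exp (-(m' : ℤ)) * exp (m' : ℤ) := mul_le_mul' h3 h2
      _ = 1 := by rw [← exp_add, neg_add_cancel, exp_zero]

theorem exists_pow_mul_val_le_one_fin {R : Type*} [CommRing R] {ι : Type*} [Fintype ι]
    (val : Valuation R (WithZero (Multiplicative ℤ))) (τ : R) (hτ : val τ ≤ exp (-1 : ℤ))
    (a : ι → R) : ∃ m : ℕ, ∀ i, val (τ ^ m * a i) ≤ 1 := by
  choose m hm using fun i => exists_pow_mul_val_le_one val τ hτ (a i)
  exact ⟨Finset.univ.sup m, fun i => hm i _ (Finset.le_sup (f := m) (Finset.mem_univ i))⟩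

section Local

universe u v

variable {K L : Type u} {F E : Type v} [Field K] [Field L] [Field F] [Field E]
  [Algebra K F] [Algebra F E] [Algebra K E] [IsScalarTower K F E] [FiniteDimensional F E]
  [Algebra K L] [Algebra L E] [IsScalarTower K L E] [FiniteDimensional K L]
  {v : Valuation F (WithZero (Multiplicative ℤ))} {w : Valuation E (WithZero (Multiplicative ℤ))}
  {φ : F →ₐ[K] LaurentSeries K} {ψ : E →ₐ[L] LaurentSeries L}

theorem trace_resExp_eq [hvw : v.HasExtension w] (hφ : LocRes.IsExpansionAt v φ)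
    (hφs : Function.Surjective φ) (hψ : LocRes.IsExpansionAt w ψ) (x : F) (y : E) :
    Algebra.trace K L (LocRes.resExp ψ y (algebraMap F E x)) =
      LocRes.resExp φ (Algebra.trace F E y) x := by
  classical
  have hequiv : v.IsEquiv (w.comap (algebraMap F E)) := hvw.val_isEquiv_comap
  have hle : ∀ {f : F}, v f ≤ 1 → w (algebraMap F E f) ≤ 1 := fun {f} hf =>
    hequiv.le_one_iff_le_one.1 hf
  haveI := isScalarTower_laurent K L
  let ψK : E →ₐ[K] LaurentSeries L := ψ.restrictScalars K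
  let φ₀ : ∀ _ : Unit, F →ₐ[K] LaurentSeries K := fun _ => φ
  let ψ₁ : ∀ _ : Unit, E →ₐ[K] LaurentSeries L := fun _ => ψK
  have hφ₀ : ∀ i : Unit, LocRes.IsExpansionAt ((fun _ => v) i) (φ₀ i) := fun _ => hφ
  have hψ₁ : ∀ i : Unit, LocRes.IsExpansionAt ((fun _ => w) i) (ψ₁ i) :=
    fun _ => ⟨hψ.1, hψ.2.1, hψ.2.2⟩
  set O : Submodule K F := OI (F := fun _ : Unit => K) φ₀ with hOd
  set O' : Submodule K E := OI (F := fun _ : Unit => L) ψ₁ with hO'd
  have memO : ∀ {f : F}, f ∈ O ↔ v f ≤ 1 := fun {f} => by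
    rw [hOd, mem_OI hφ₀]
    exact ⟨fun h => h (), fun h _ => h⟩
  have memO' : ∀ {z : E}, z ∈ O' ↔ w z ≤ 1 := fun {z} => by
    rw [hO'd, mem_OI hψ₁]
    exact ⟨fun h => h (), fun h _ => h⟩
  obtain ⟨π₀, hπ₀⟩ := exists_isProjOnto O
  obtain ⟨π', hπ'⟩ := exists_isProjOnto O'
  have happ₀ : ∀ x : Unit → F, ∃ y : F, ∀ i, (fun _ : Unit => v) i (y - x i) ≤ 1 :=
    fun x => ⟨x (), fun _ => by simp⟩
  have happ₁ : ∀ x : Unit → E, ∃ y : E, ∀ i, (fun _ : Unit => w) i (y - x i) ≤ 1 :=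
    fun x => ⟨x (), fun _ => by simp⟩
  have hbot := ftr_comm_OI (F := fun _ : Unit => K) hφ₀ happ₀ hπ₀ (Algebra.trace F E y) x
  have htop := ftr_comm_OI (F := fun _ : Unit => L) hψ₁ happ₁ hπ' y (algebraMap F E x)
  rw [Fintype.sum_unique] at hbot htop
  -- generators and the lattice
  obtain ⟨r, z, hz, hgen⟩ := exists_fg hφ hφs hψ
  obtain ⟨t₀, ht₀⟩ := hφ.2.2
  have ht₀0 : t₀ ≠ 0 := by
    rintro rfl
    rw [map_zero] at ht₀
    exact exp_ne_zero ht₀.symm
  have hwT : w (algebraMap F E t₀) ≤ exp (-1 : ℤ) := by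
    refine le_exp_neg_one_of_lt_one (hequiv.lt_one_iff_lt_one.1 ?_)
    rw [ht₀, ← exp_zero, exp_lt_exp]; omega
  let b₀ := Module.finBasis F E
  obtain ⟨m₁, hm₁⟩ := exists_pow_mul_val_le_one_fin v t₀ ht₀.le
    (fun p : Fin r × Fin (Module.finrank F E) => b₀.repr (z p.1) p.2)
  have hu₁ : ∀ _ : Fin (Module.finrank F E), IsUnit ((t₀ ^ m₁)⁻¹) :=
    fun _ => IsUnit.mk0 _ (inv_ne_zero (pow_ne_zero _ ht₀0))
  let b := b₀.isUnitSMul hu₁
  have hbrepr : ∀ (u : E) j, b.repr u j = t₀ ^ m₁ * b₀.repr u j := by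
    intro u j
    rw [Module.Basis.repr_isUnitSMul, Units.smul_def, Units.val_inv_eq_inv_val, IsUnit.unit_spec,
      inv_inv, smul_eq_mul]
  have h1 : O' ≤ latt b O := by
    intro u hu
    obtain ⟨C, hC, huC⟩ := hgen u (memO'.1 hu)
    refine mem_latt.2 fun j => memO.2 ?_
    rw [hbrepr, huC, map_sum, Finsupp.finset_sum_apply, Finset.mul_sum]
    refine Valuation.map_sum_le _ fun i _ => ?_
    rw [← Algebra.smul_def, map_smul, Finsupp.smul_apply, smul_eq_mul, mul_left_comm, map_mul]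
    exact mul_le_one' (hC i) (hm₁ (i, j))
  obtain ⟨m₂, hm₂⟩ := exists_pow_mul_val_le_one_fin w (algebraMap F E t₀) hwT (fun j => b j)
  have h2 : ∀ u ∈ latt b O, algebraMap F E (t₀ ^ m₂) * u ∈ O' := by
    intro u hu
    refine memO'.2 ?_
    rw [← b.sum_repr u, Finset.mul_sum]
    refine Valuation.map_sum_le _ fun j _ => ?_
    rw [Algebra.smul_def, mul_left_comm, map_mul, map_pow]
    exact mul_le_one' (hle (memO.1 (mem_latt.1 hu j))) (hm₂ j)
  have hT := ftr_comm_trace b (fun f => nearStable_OI (φ := φ₀) f) hπ₀ O' hπ'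
    (fun z => nearStable_OI (φ := ψ₁) z) h1 (t₀ ^ m₂) (pow_ne_zero _ ht₀0) h2 y x
  rw [htop, hbot, Algebra.trace_self_apply] at hT
  exact hT

end Local

end Groth.Agent.H27.Tate
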